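import Groth.Agent.Resolve.K138.Loc
import Groth.Agent.Resolve.K73.Belyi

/-!
# The tower `P^(n+1) ← P_1 → P_e → P^n`
-/

set_option autoImplicit false

universe u

open CategoryTheory AlgebraicGeometry HomogeneousLocalization MvPolynomial
open CategoryTheory.Limits (pullback)

namespace K138.TowerThm

open CohB1 K138.Pt K138.PolyMap K138.Prod K138.Clos K138.Chart K138.Cover K138.Alg K138.Hmap K138.Sect K138.Geo
  K138.Loc

variable {n : ℕ} {K : Type u} [Field K] {e : ℕ}

theorem finSuccEquiv_rename (c : MvPolynomial (Fin (n + 1)) K) :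
    finSuccEquiv K (n + 1) (rename Fin.succ c) = Polynomial.C c := by
  induction c using MvPolynomial.induction_on with
  | C a => rw [rename_C, finSuccEquiv_apply]; simp
  | add p q hp hq => rw [map_add, map_add, hp, hq, map_add]
  | mul_X p i hp => rw [map_mul, map_mul, hp, rename_X, finSuccEquiv_X_succ, map_mul]

/-- A polynomial with homogeneous coefficients is homogeneous. -/
theorem isHomogeneous_symm (p : Polynomial (MvPolynomial (Fin (n + 1)) K)) (hd : p.natDegree = e)
    (hw : ∀ i j, i + j = e → (p.coeff i).IsHomogeneous j) :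
    ((finSuccEquiv K (n + 1)).symm p).IsHomogeneous e := by
  have h1 : (finSuccEquiv K (n + 1)).symm p = ∑ i ∈ Finset.range (e + 1),
      rename Fin.succ (p.coeff i) * X 0 ^ i := by
    apply (finSuccEquiv K (n + 1)).injective
    rw [AlgEquiv.apply_symm_apply, map_sum]
    conv_lhs => rw [p.as_sum_range_C_mul_X_pow, hd]
    refine Finset.sum_congr rfl fun i _ => ?_
    rw [map_mul, map_pow, finSuccEquiv_X_zero]
    congr 1
    rw [finSuccEquiv_rename]
  rw [h1]
  refine IsHomogeneous.sum _ _ _ fun i hi => ?_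
  rw [Finset.mem_range] at hi
  have h2 : (rename Fin.succ (p.coeff i)).IsHomogeneous (e - i) :=
    (hw i (e - i) (by omega)).rename_isHomogeneous
  have h3 := h2.mul ((isHomogeneous_X K (0 : Fin (n + 1 + 1))).pow i)
  have h4 : e - i + 1 * i = e := by omega
  rwa [h4] at h3

theorem isClosed_range_section (s : Proj (polyGrading n K) ⟶ PJ n K e) (hs : s ≫ q n K e = 𝟙 _) :
    IsClosed (Set.range s) := by
  have h1 : IsSeparated (q n K e) := by unfold q; infer_instance
  have h2 : IsClosedImmersion (s ≫ q n K e) := by rw [hs]; infer_instance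
  have h3 : IsClosedImmersion s := IsClosedImmersion.of_comp s (q n K e)
  exact s.isClosedEmbedding.isClosed_range

theorem tower [CharZero K] (n : ℕ) : K124.Tower.Tower K n := by
  intro d F hF hFm hFd
  obtain ⟨p, R, m, hp, hp0, hpw, hR, hdv1, hdv2⟩ := K73.Belyi.exists_belyi_mvPolynomial
    (finSuccEquiv K (n + 1) F) hFm (fun i j hij => IsHomogeneous.finSuccEquiv_coeff_isHomogeneous hF i j
      (by rw [hij, hFd]))
  set e := p.natDegree with he0
  set h := (finSuccEquiv K (n + 1)).symm p with hh0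
  have hph : finSuccEquiv K (n + 1) h = p := (finSuccEquiv K (n + 1)).apply_symm_apply p
  have hh : h ∈ polyGrading (n + 1) K e := isHomogeneous_symm p rfl hpw
  have hm : (finSuccEquiv K (n + 1) h).Monic := by rw [hph]; exact hp
  have hd : (finSuccEquiv K (n + 1) h).natDegree = e := by rw [hph]
  rw [← hph] at hdv1 hdv2
  have hR' : ∀ r ∈ R, r ∈ polyGrading n K e := hR
  let s' : Option R → (Proj (polyGrading n K) ⟶ PJ n K e) := fun o =>
    match o with
    | none => sI n K e
    | some r => sR hp0 (hR' r.1 r.2)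
  let ε := Fintype.equivFin (Option R)
  let s : Fin (Fintype.card (Option R)) → (Proj (polyGrading n K) ⟶ PJ n K e) := fun j => s' (ε.symm j)
  have hs : ∀ j, s j ≫ q n K e = 𝟙 _ := by
    intro j
    change s' (ε.symm j) ≫ _ = _
    rcases ε.symm j with _ | r
    · exact sI_q
    · exact sR_q _ _
  have himg : K84.Iface.img s = ⋃ o, Set.range (s' o) := by
    unfold K84.Iface.img
    ext x
    simp only [Set.mem_iUnion]
    exact ⟨fun ⟨j, hj⟩ => ⟨_, hj⟩, fun ⟨o, ho⟩ => ⟨ε o, by simpa [s] using ho⟩⟩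
  have hcl : IsClosed (K84.Iface.img s) := isClosed_iUnion_of_finite fun j => isClosed_range_section _ (hs j)
  let U : (PJ n K e).Opens := ⟨(K84.Iface.img s)ᶜ, hcl.isOpen_compl⟩
  refine ⟨PJ n K 1, PJ n K e, b n K 1, q n K e, H hp0 hh hm hd, _, s, U, isIntegral_PJ n K 1, smooth_b n K 1,
    isBir_b n K, isIntegral_PJ n K e, smooth_q n K e, isHProjective_q n K e, hs, ?_, ?_,
    isFinite_H hp0 hh hm hd, ⟨surjective_H hp0 hh hm hd⟩, rfl, ?_, ?_⟩
  · intro j j' hjj
    apply ε.symm.injective
    change s' (ε.symm j) = s' (ε.symm j') at hjj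
    generalize ε.symm j = o at hjj
    generalize ε.symm j' = o' at hjj
    rcases o with _ | r <;> rcases o' with _ | r'
    · rfl
    · exact absurd hjj.symm (sR_ne_sI _ _)
    · exact absurd hjj (sR_ne_sI _ _)
    · exact congrArg some (Subtype.ext (sR_injective _ _ _ hjj))
  · change H hp0 hh hm hd ≫ q n K e ≫ str n K = b n K 1 ≫ str (n + 1) K
    rw [← Category.assoc, H_q, q_str]
  · apply etale_restrict
    intro x hx
    have hx' : H hp0 hh hm hd x ∉ K84.Iface.img s := hx
    rw [himg, Set.mem_iUnion, not_exists] at hx'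
    exact exists_etale_H hp0 hh hm hd R hR' m hdv2 x (hx' none) (fun r hr => hx' (some ⟨r, hr⟩))
  · intro x hx
    obtain ⟨r, hr, h1⟩ := mem_of_div hp0 hh hm hd R hR' m hF hFm hFd hdv1 x hx
    exact himg.ge (Set.mem_iUnion.mpr ⟨some ⟨r, hr⟩, h1⟩)

end K138.TowerThm
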