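import Groth.Agent.FlatB.AffSpaceSmooth
import Mathlib.AlgebraicGeometry.Morphisms.Etale
import Mathlib.RingTheory.Etale.StandardEtale

/-!
# The endomorphism `t ↦ h(t)` of the affine line
-/

set_option autoImplicit false

universe u

open CategoryTheory AlgebraicGeometry Polynomial

namespace K138.Alg

theorem smooth_polynomial (A : Type u) [CommRing A] :
    SmoothOfRelativeDimension 1 (Spec.map (CommRingCat.ofHom (Polynomial.C : A →+* Polynomial A))) := by
  let e : MvPolynomial (Fin 1) A ≃ₐ[A] Polynomial A :=
    MvPolynomial.uniqueAlgEquiv A (Fin 1)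
  have h0 := Groth.Agent.FlatB.AffSpaceSmooth.isStandardSmoothOfRelativeDimension A 1
  have h1 : Algebra.IsStandardSmoothOfRelativeDimension 1 A (Polynomial A) :=
    Algebra.IsStandardSmoothOfRelativeDimension.of_algEquiv 1 e
  have h : (algebraMap A (Polynomial A)).IsStandardSmoothOfRelativeDimension 1 := by
    rw [RingHom.isStandardSmoothOfRelativeDimension_algebraMap]
    exact h1
  change SmoothOfRelativeDimension 1 (Spec.map (CommRingCat.ofHom (algebraMap A (Polynomial A))))
  rw [HasRingHomProperty.Spec_iff (P := @SmoothOfRelativeDimension 1)]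
  exact RingHom.locally_of RingHom.isStandardSmoothOfRelativeDimension_respectsIso _ h

/-- the substitution `X ↦ h` -/
noncomputable def sub {A : Type u} [CommRing A] (h : A[X]) : A[X] →+* A[X] := eval₂RingHom C h

theorem sub_C {A : Type u} [CommRing A] (h : A[X]) (a : A) : sub h (C a) = C a := by simp [sub]

theorem sub_X {A : Type u} [CommRing A] (h : A[X]) : sub h X = h := by simp [sub]

section etale

variable {A S B : Type u} [CommRing A] [CommRing S] [CommRing B] [Algebra S B]
  (e : A[X] ≃+* S) (h : A[X]) (hm : h.Monic) (hd : 0 < h.natDegree) (loc : A[X] →+* B)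

/-- the standard étale pair -/
noncomputable def pair (hm : h.Monic) (hd : 0 < h.natDegree) : StandardEtalePair S where
  f := h.map (e.toRingHom.comp C) - C (e X)
  monic_f := by
    nontriviality S
    refine (hm.map _).sub_of_left ?_
    rw [hm.degree_map]
    refine (degree_C_le).trans_lt ?_
    exact natDegree_pos_iff_degree_pos.mp hd
  g := (derivative h).map (e.toRingHom.comp C)
  cond := ⟨1, 0, 1, by simp [derivative_map]⟩

include hm hd in
theorem etale_aux (hl : ∀ p : A[X], algebraMap S B (e p) = loc (sub h p))
    (hloc : @IsLocalization.Away A[X] _ (derivative h) B _ loc.toAlgebra) : Algebra.Etale S B := by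
  let P := pair e h hm hd
  have hlC : ∀ a, algebraMap S B (e (C a)) = loc (C a) := fun a => by rw [hl, sub_C]
  have hlX : algebraMap S B (e X) = loc h := by rw [hl, sub_X]
  have hev : ∀ p : A[X], aeval (loc X) (p.map (e.toRingHom.comp C)) = loc p := by
    intro p
    rw [aeval_def, eval₂_map]
    have : (eval₂RingHom (((algebraMap S B).comp (e.toRingHom.comp C))) (loc X)) = loc := by
      apply Polynomial.ringHom_ext
      · intro a
        simp only [coe_eval₂RingHom, eval₂_C]
        exact hlC a
      · simp
    exact congr($this p)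
  have hu : IsUnit (loc (derivative h)) := by
    let := loc.toAlgebra
    exact IsLocalization.Away.algebraMap_isUnit (S := B) (derivative h)
  have h1 : P.HasMap (loc X) := by
    constructor
    · change aeval (loc X) (h.map (e.toRingHom.comp C) - C (e X)) = 0
      rw [map_sub, hev, aeval_C, hlX, sub_self]
    · change IsUnit (aeval (loc X) ((derivative h).map (e.toRingHom.comp C)))
      rw [hev]; exact hu
  let φ : P.Ring →ₐ[S] B := P.lift (loc X) h1
  have hP := P.hasMap_X
  let ev0 : A[X] →+* P.Ring := eval₂RingHom ((algebraMap S P.Ring).comp (e.toRingHom.comp C)) P.X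
  have hev0 : ∀ p : A[X], aeval P.X (p.map (e.toRingHom.comp C)) = ev0 p := by
    intro p
    rw [aeval_def, eval₂_map]; rfl
  have hu0 : IsUnit (ev0 (derivative h)) := by
    rw [← hev0]; exact hP.2
  have hh0 : ev0 h = algebraMap S P.Ring (e X) := by
    have := hP.1
    change aeval P.X (h.map (e.toRingHom.comp C) - C (e X)) = 0 at this
    rw [map_sub, hev0, aeval_C, sub_eq_zero] at this
    exact this
  let ψ : B →+* P.Ring := by
    let := loc.toAlgebra
    exact IsLocalization.Away.lift (S := B) (derivative h) hu0
  have hψ : ∀ p, ψ (loc p) = ev0 p := by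
    let := loc.toAlgebra
    intro p
    exact IsLocalization.Away.lift_eq (S := B) (derivative h) hu0 p
  have h2 : φ.toRingHom.comp ψ = RingHom.id B := by
    let := loc.toAlgebra
    apply IsLocalization.ringHom_ext (Submonoid.powers (derivative h))
    apply Polynomial.ringHom_ext
    · intro a
      change φ (ψ (loc (C a))) = loc (C a)
      rw [hψ]
      simp only [ev0, coe_eval₂RingHom, eval₂_C]
      exact (φ.commutes _).trans (hlC a)
    · change φ (ψ (loc X)) = loc X
      rw [hψ]
      simp only [ev0, coe_eval₂RingHom, eval₂_X]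
      exact P.lift_X _ h1
  have h3 : ∀ s : S, ψ (algebraMap S B s) = algebraMap S P.Ring s := by
    intro s
    obtain ⟨p, rfl⟩ := e.surjective s
    rw [hl, hψ]
    have : ev0.comp (sub h) = (algebraMap S P.Ring).comp e.toRingHom := by
      apply Polynomial.ringHom_ext
      · intro a
        simp only [RingHom.comp_apply, sub_C]
        simp [ev0]
      · simp only [RingHom.comp_apply, sub_X]
        exact hh0
    exact congr($this p)
  let ψ' : B →ₐ[S] P.Ring := { ψ with commutes' := h3 }
  have h4 : ψ'.comp φ = AlgHom.id S P.Ring := by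
    apply P.hom_ext
    change ψ (φ P.X) = P.X
    have : φ P.X = loc X := P.lift_X _ h1
    rw [this, hψ]
    simp [ev0]
  have h5 : φ.comp ψ' = AlgHom.id S B := by
    ext x
    exact congr($h2 x)
  exact Algebra.Etale.of_equiv (AlgEquiv.ofAlgHom φ ψ' h5 h4)

end etale

theorem etale_sub {A : Type u} [CommRing A] (h : A[X]) (hm : h.Monic) (hd : 0 < h.natDegree) :
    ((algebraMap A[X] (Localization.Away (derivative h))).comp (sub h)).Etale := by
  let f := (algebraMap A[X] (Localization.Away (derivative h))).comp (sub h)
  exact @etale_aux A A[X] (Localization.Away (derivative h)) _ _ _ f.toAlgebra (RingEquiv.refl _) h hm hd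
    (algebraMap A[X] (Localization.Away (derivative h))) (fun p => rfl) (by
      have h1 : (algebraMap A[X] (Localization.Away (derivative h))).toAlgebra =
        (inferInstance : Algebra A[X] (Localization.Away (derivative h))) := Algebra.algebra_ext _ _ fun _ => rfl
      rw [h1]
      infer_instance)

/-- The morphism `t ↦ h(t)` is étale where the derivative is invertible. -/
theorem exists_etale {A : Type u} [CommRing A] (h : A[X]) (hm : h.Monic) (hd : 0 < h.natDegree)
    (x : Spec (CommRingCat.of A[X])) (hx : derivative h ∉ x.asIdeal) :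
    ∃ (W : Scheme.{u}) (j : W ⟶ Spec (CommRingCat.of A[X])), IsOpenImmersion j ∧ x ∈ Set.range j ∧
      Etale (j ≫ Spec.map (CommRingCat.ofHom (sub h))) := by
  refine ⟨Spec (CommRingCat.of (Localization.Away (derivative h))),
    Spec.map (CommRingCat.ofHom (algebraMap A[X] (Localization.Away (derivative h)))), ?_, ?_, ?_⟩
  · infer_instance
  · have := PrimeSpectrum.localization_away_comap_range (Localization.Away (derivative h)) (derivative h)
    have h2 : x ∈ (PrimeSpectrum.basicOpen (derivative h) : Set (PrimeSpectrum A[X])) := hx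
    rw [← this] at h2
    exact h2
  · rw [← Spec.map_comp, ← CommRingCat.ofHom_comp, HasRingHomProperty.Spec_iff (P := @Etale)]
    exact etale_sub h hm hd

theorem sub_injective {A : Type u} [CommRing A] [IsDomain A] (h : A[X]) (hd : 0 < h.natDegree) :
    Function.Injective (sub h) := by
  rw [injective_iff_map_eq_zero]
  intro p hp
  have h1 : p.comp h = 0 := hp
  rw [comp_eq_zero_iff] at h1
  rcases h1 with h1 | ⟨-, h2⟩
  · exact h1
  · rw [h2, natDegree_C] at hd
    exact absurd hd (lt_irrefl _)

theorem sub_isIntegral {A : Type u} [CommRing A] (h : A[X]) (hm : h.Monic) (hd : 0 < h.natDegree) :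
    (sub h).IsIntegral := by
  have hA : Nontrivial A := by
    by_contra hA
    rw [not_nontrivial_iff_subsingleton] at hA
    have h0 : h = 0 := Subsingleton.elim _ _
    simp [h0] at hd
  have hC : ∀ a : A, (sub h).IsIntegralElem (C a) := fun a => by
    have := (sub h).isIntegralElem_map (x := C a)
    rwa [sub_C] at this
  have hX : (sub h).IsIntegralElem X := by
    refine ⟨h.map C - C X, ?_, ?_⟩
    · refine (hm.map _).sub_of_left ?_
      rw [hm.degree_map]
      exact (degree_C_le).trans_lt (natDegree_pos_iff_degree_pos.mp hd)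
    · rw [eval₂_sub, eval₂_map, eval₂_C, sub_X]
      have : (sub h).comp C = C := by ext a; simp [sub_C]
      rw [this, eval₂_C_X, sub_self]
  have hXm : ∀ m : ℕ, (sub h).IsIntegralElem (X ^ m) := by
    intro m
    induction m with
    | zero => simpa using hC 1
    | succ m hm => rw [pow_succ]; exact hm.mul _ hX
  intro p
  induction p using Polynomial.induction_on' with
  | add p q hp hq => exact hp.add _ hq
  | monomial m a =>
    rw [← C_mul_X_pow_eq_monomial]
    exact (hC a).mul _ (hXm m)

theorem surjective_sub {A : Type u} [CommRing A] [IsDomain A] (h : A[X]) (hm : h.Monic) (hd : 0 < h.natDegree) :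
    Function.Surjective (Spec.map (CommRingCat.ofHom (sub h))) := by
  intro P
  let := (sub h).toAlgebra
  have h1 : Algebra.IsIntegral A[X] A[X] := ⟨sub_isIntegral h hm hd⟩
  have h2 := sub_injective h hd
  obtain ⟨Q, hQ, hQ'⟩ := Ideal.exists_ideal_over_prime_of_isIntegral (R := A[X]) (S := A[X]) P.asIdeal ⊥ (by
    intro x hx
    have : (sub h) x = 0 := hx
    rw [h2 (this.trans (map_zero _).symm)]
    exact zero_mem _)
  exact ⟨⟨Q, hQ'.1⟩, PrimeSpectrum.ext hQ'.2⟩

end K138.Alg
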