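import Groth.Agent.Resolve.K138.Clos
import Groth.Agent.VarietyB.ProjStd
import Mathlib.RingTheory.Algebraic.Integral
import Mathlib.RingTheory.Localization.FractionRing

/-!
# The affine charts of `P_e ⊆ P^(n+1) × P^n`, the closure of the graph of `[z : x_0^e : … : x_n^e]`
-/

set_option autoImplicit false

universe u

open CategoryTheory AlgebraicGeometry HomogeneousLocalization MvPolynomial
open CategoryTheory.Limits (pullback)

namespace K138.Chart

open Groth.Agent.VarietyB.ProjHom Groth.Agent.VarietyB.ProjGlue CohB1 K138.Pt K138.PolyMap K138.Prod K138.Clos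

theorem ev_X {K B : Type u} [CommRing K] [CommRing B] {N : ℕ} (k : K →+* B) (g : Fin (N + 1) → B) (l : Fin (N + 1)) :
    ev k g (X l) = g l := by simp

variable (n : ℕ) (K : Type u) [Field K]

/-- the coordinate ring of the `i`-th chart of `P^n` -/
abbrev A (i : Fin (n + 1)) : Type u := Away (polyGrading n K) (X i : MvPolynomial (Fin (n + 1)) K)

variable {n K}

/-- `x_l / x_i` -/
noncomputable abbrev rt (i l : Fin (n + 1)) : A n K i := rat (X_mem i) (X l) (X_mem l)

theorem rt_self (i : Fin (n + 1)) : (rt i i : A n K i) = 1 := rat_self _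

variable (n K)

/-- the field `K(x_0, …, x_n)` -/
abbrev F : Type u := FractionRing (MvPolynomial (Fin (n + 1)) K)

/-- the field `K(x_0, …, x_n)(z)` -/
abbrev L : Type u := FractionRing (Polynomial (F n K))

/-- the inclusion of `F` in `L` -/
noncomputable def iF : F n K →+* L n K := (algebraMap (Polynomial (F n K)) (L n K)).comp Polynomial.C

/-- the coordinates of the generic point of `P^n` -/
noncomputable def xF (l : Fin (n + 1)) : F n K := algebraMap (MvPolynomial (Fin (n + 1)) K) (F n K) (X l)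

theorem xF_ne (l : Fin (n + 1)) : xF n K l ≠ 0 := by
  unfold xF
  intro h
  have := (IsFractionRing.injective (MvPolynomial (Fin (n + 1)) K) (F n K)) (h.trans (map_zero _).symm)
  exact MvPolynomial.X_ne_zero l this

/-- `K → F` -/
noncomputable def kF : K →+* F n K := (algebraMap (MvPolynomial (Fin (n + 1)) K) (F n K)).comp C

theorem ev_kF : ev (kF n K) (xF n K) = algebraMap (MvPolynomial (Fin (n + 1)) K) (F n K) := by
  apply MvPolynomial.ringHom_ext
  · intro r; simp [kF]
  · intro i; simp [xF]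

/-- the chart to the function field -/
noncomputable def ρ (i : Fin (n + 1)) : A n K i →+* F n K :=
  awayLift (polyGrading n K) (ev (kF n K) (xF n K)) (X i) (isUnit_ev_X (IsUnit.mk0 _ (xF_ne n K i)))

theorem ρ_rt (i l : Fin (n + 1)) : ρ n K i (rt i l) * xF n K i = xF n K l := by
  have := awayLift_rat (kF n K) (xF n K) (X_mem i) (isUnit_ev_X (IsUnit.mk0 _ (xF_ne n K i))) (X l) (X_mem l)
  rwa [ev_X, ev_X] at this

theorem ρ_kA (i : Fin (n + 1)) : (ρ n K i).comp (kA (X i)) = kF n K := awayLift_kA _ _ (X_mem i) _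

theorem ρ_injective (i : Fin (n + 1)) : Function.Injective (ρ n K i) := by
  rw [injective_iff_map_eq_zero]
  intro a ha
  obtain ⟨m, b, hb, rfl⟩ := Away.mk_surjective (polyGrading n K) (X_mem i) a
  have h1 := awayLift_mk (polyGrading n K) (ev (kF n K) (xF n K)) (isUnit_ev_X (IsUnit.mk0 _ (xF_ne n K i)))
    (X_mem i) m b hb
  have h2 : ρ n K i (Away.mk (polyGrading n K) (X_mem i) m b hb) * ev (kF n K) (xF n K) (X i) ^ m =
    ev (kF n K) (xF n K) b := h1
  rw [ha, zero_mul, ev_kF] at h2
  have h3 : b = 0 := (IsFractionRing.injective (MvPolynomial (Fin (n + 1)) K) (F n K)) (h2.symm.trans (map_zero _).symm)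
  subst h3
  apply HomogeneousLocalization.val_injective
  rw [Away.val_mk, HomogeneousLocalization.val_zero, Localization.mk_zero]

/-- the chart ring is generated by the ratios -/
theorem closure_eq_top (i : Fin (n + 1)) :
    Subring.closure (Set.range (kA (K := K) (X i)) ∪ Set.range (rt (n := n) (K := K) i)) = ⊤ := by
  rw [Subring.eq_top_iff']
  intro a
  obtain ⟨b, rfl⟩ := Groth.Agent.VarietyB.ProjStd.deh_surjective (Fin (n + 1)) K i a
  change ev (kA (X i)) (rt i) b ∈ _
  induction b using MvPolynomial.induction_on with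
  | C r =>
    simp only [coe_eval₂Hom, eval₂_C]
    exact Subring.subset_closure (Or.inl ⟨r, rfl⟩)
  | add p q hp hq => rw [map_add]; exact add_mem hp hq
  | mul_X p l hp =>
    rw [map_mul]
    refine mul_mem hp ?_
    simp only [coe_eval₂Hom, eval₂_X]
    exact Subring.subset_closure (Or.inr ⟨l, rfl⟩)

/-- the variable `z` -/
noncomputable def zL : L n K := algebraMap (Polynomial (F n K)) (L n K) Polynomial.X

/-- the coordinates of the generic point -/
noncomputable def xL (l : Fin (n + 1)) : L n K := iF n K (xF n K l)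

theorem xL_ne (l : Fin (n + 1)) : xL n K l ≠ 0 := by
  unfold xL
  rw [Ne, map_eq_zero]
  exact xF_ne n K l

theorem zL_ne : zL n K ≠ 0 := by
  unfold zL
  intro h
  have := (IsFractionRing.injective (Polynomial (F n K)) (L n K)) (h.trans (map_zero _).symm)
  exact Polynomial.X_ne_zero this

noncomputable def kL : K →+* L n K := (iF n K).comp (kF n K)

/-- the homomorphism from the affine chart -/
noncomputable def Ψ (i : Fin (n + 1)) (θ : L n K) : Polynomial (A n K i) →+* L n K :=
  Polynomial.eval₂RingHom ((iF n K).comp (ρ n K i)) θ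

/-- transcendental over `F` -/
def Tr (θ : L n K) : Prop := ∀ p : Polynomial (F n K), p.eval₂ (iF n K) θ = 0 → p = 0

theorem Ψ_injective (i : Fin (n + 1)) {θ : L n K} (hθ : Tr n K θ) : Function.Injective (Ψ n K i θ) := by
  rw [injective_iff_map_eq_zero]
  intro p hp
  have h1 : Ψ n K i θ p = (p.map (ρ n K i)).eval₂ (iF n K) θ := by
    rw [Ψ, Polynomial.coe_eval₂RingHom, Polynomial.eval₂_map]
  rw [h1] at hp
  have h2 := hθ _ hp
  exact (Polynomial.map_eq_zero_iff (ρ_injective n K i)).mp h2

theorem tr_zL : Tr n K (zL n K) := by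
  intro p hp
  have h1 : p.eval₂ (iF n K) (zL n K) = algebraMap (Polynomial (F n K)) (L n K) p := by
    have h2 : Polynomial.eval₂RingHom (iF n K) (zL n K) = algebraMap (Polynomial (F n K)) (L n K) := by
      apply Polynomial.ringHom_ext
      · intro a; simp [iF]
      · simp [zL]
    exact congr($h2 p)
  rw [h1] at hp
  exact (IsFractionRing.injective (Polynomial (F n K)) (L n K)) (hp.trans (map_zero _).symm)

theorem tr_iff (θ : L n K) : Tr n K θ ↔ ¬ @IsAlgebraic (F n K) (L n K) _ _ (iF n K).toAlgebra θ := by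
  let : Algebra (F n K) (L n K) := (iF n K).toAlgebra
  rw [IsAlgebraic]
  constructor
  · rintro h ⟨p, hp0, hp⟩
    exact hp0 (h p hp)
  · intro h p hp
    by_contra hne
    exact h ⟨p, hne, hp⟩

theorem tr_of_mul {θ : L n K} {a : F n K} (h : θ * iF n K a = zL n K) : Tr n K θ := by
  rw [tr_iff]
  let : Algebra (F n K) (L n K) := (iF n K).toAlgebra
  intro hθ
  refine (tr_iff n K _).mp (tr_zL n K) ?_
  rw [← h]
  exact hθ.mul (isAlgebraic_algebraMap a)

theorem tr_of_mul' {θ : L n K} {a : F n K} (ha : a ≠ 0) (h : θ * zL n K = iF n K a) : Tr n K θ := by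
  rw [tr_iff]
  let : Algebra (F n K) (L n K) := (iF n K).toAlgebra
  intro hθ
  refine (tr_iff n K _).mp (tr_zL n K) ?_
  have hθ0 : θ ≠ 0 := by
    rintro rfl
    rw [zero_mul] at h
    exact ha ((map_eq_zero (iF n K)).mp h.symm)
  have h2 : zL n K = θ⁻¹ * iF n K a := by rw [← h]; field_simp
  rw [h2]
  exact hθ.inv.mul (isAlgebraic_algebraMap a)

variable (e : ℕ)

/-- the generic point of `P_e` -/
noncomputable def gL : Fin (n + 1 + 1) → L n K := Fin.cons (zL n K) (fun l => xL n K l ^ e)

/-- the generic point of `P_e` -/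
noncomputable def ζ : Spec (CommRingCat.of (L n K)) ⟶ XX (n + 1) n K :=
  qt (kL n K) (gL n K e) 0 (IsUnit.mk0 _ (zL_ne n K)) (xL n K) 0 (IsUnit.mk0 _ (xL_ne n K 0))

variable (i : Fin (n + 1))

/-- the structure map of the charts -/
noncomputable def kC : K →+* Polynomial (A n K i) := Polynomial.C.comp (kA (X i))

/-- the coordinates of the `u`-chart -/
noncomputable def gU : Fin (n + 1 + 1) → Polynomial (A n K i) :=
  Fin.cons Polynomial.X (fun l => Polynomial.C (rt i l ^ e))

/-- the coordinates of the `z`-chart -/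
noncomputable def gZ : Fin (n + 1 + 1) → Polynomial (A n K i) :=
  Fin.cons 1 (fun l => Polynomial.C (rt i l ^ e) * Polynomial.X)

/-- the coordinates on the base -/
noncomputable def yC : Fin (n + 1) → Polynomial (A n K i) := fun l => Polynomial.C (rt i l)

theorem gU_succ : gU n K e i i.succ = 1 := by simp [gU, rt_self]

theorem gZ_zero : gZ n K e i 0 = 1 := by simp [gZ]

theorem yC_self : yC n K i i = 1 := by simp [yC, rt_self]

/-- the `u`-chart -/
noncomputable def cU : Spec (CommRingCat.of (Polynomial (A n K i))) ⟶ XX (n + 1) n K :=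
  qt (kC n K i) (gU n K e i) i.succ (by rw [gU_succ]; exact isUnit_one) (yC n K i) i
    (by rw [yC_self]; exact isUnit_one)

/-- the `z`-chart -/
noncomputable def cZ : Spec (CommRingCat.of (Polynomial (A n K i))) ⟶ XX (n + 1) n K :=
  qt (kC n K i) (gZ n K e i) 0 (by rw [gZ_zero]; exact isUnit_one) (yC n K i) i
    (by rw [yC_self]; exact isUnit_one)

theorem gen_aux {S : Subring (Polynomial (A n K i))} (h1 : ∀ c, kC n K i c ∈ S) (h2 : ∀ l, yC n K i l ∈ S)
    (h3 : Polynomial.X ∈ S) : S = ⊤ := by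
  rw [Subring.eq_top_iff']
  have hC : ∀ a : A n K i, Polynomial.C a ∈ S := by
    have h4 : Subring.closure (Set.range (kA (K := K) (X i)) ∪ Set.range (rt (n := n) (K := K) i)) ≤
        S.comap Polynomial.C := by
      rw [Subring.closure_le]
      rintro _ (⟨c, rfl⟩ | ⟨l, rfl⟩)
      · exact h1 c
      · exact h2 l
    rw [closure_eq_top] at h4
    intro a
    exact h4 (Subring.mem_top a)
  intro p
  induction p using Polynomial.induction_on' with
  | add p q hp hq => exact add_mem hp hq
  | monomial m a =>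
    rw [← Polynomial.C_mul_X_pow_eq_monomial]
    exact mul_mem (hC a) (pow_mem h3 m)

theorem gen_U : Gen (kC n K i) (gU n K e i) (yC n K i) := by
  apply gen_aux
  · exact fun c => Subring.subset_closure (Or.inl (Or.inl ⟨c, rfl⟩))
  · exact fun l => Subring.subset_closure (Or.inr ⟨l, rfl⟩)
  · exact Subring.subset_closure (Or.inl (Or.inr ⟨0, by simp [gU]⟩))

theorem gen_Z : Gen (kC n K i) (gZ n K e i) (yC n K i) := by
  apply gen_aux
  · exact fun c => Subring.subset_closure (Or.inl (Or.inl ⟨c, rfl⟩))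
  · exact fun l => Subring.subset_closure (Or.inr ⟨l, rfl⟩)
  · exact Subring.subset_closure (Or.inl (Or.inr ⟨i.succ, by simp [gZ, rt_self]⟩))

theorem isImmersion_cU : IsImmersion (cU n K e i) := by
  have := isClosedImmersion_qc (kC n K i) (gU n K e i) i.succ (gU_succ n K e i) (yC n K i) i (yC_self n K i)
    (gen_U n K e i)
  rw [cU, ← qc_aff]
  infer_instance

theorem isImmersion_cZ : IsImmersion (cZ n K e i) := by
  have := isClosedImmersion_qc (kC n K i) (gZ n K e i) 0 (gZ_zero n K e i) (yC n K i) i (yC_self n K i)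
    (gen_Z n K e i)
  rw [cZ, ← qc_aff]
  infer_instance

theorem Ψ_kC (θ : L n K) : (Ψ n K i θ).comp (kC n K i) = kL n K := by
  ext c
  simp only [Ψ, kC, RingHom.comp_apply, Polynomial.coe_eval₂RingHom, Polynomial.eval₂_C, kL]
  congr 1
  exact congr($(ρ_kA n K i) c)

theorem Ψ_C (θ : L n K) (l : Fin (n + 1)) (m : ℕ) : Ψ n K i θ (Polynomial.C (rt i l ^ m)) =
    (xL n K i)⁻¹ ^ m * xL n K l ^ m := by
  have h := congrArg (iF n K) (ρ_rt n K i l)
  rw [map_mul] at h
  have h2 : iF n K (ρ n K i (rt i l)) = (xL n K i)⁻¹ * xL n K l := by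
    rw [inv_mul_eq_div, eq_div_iff (xL_ne n K i)]
    exact h
  simp only [Ψ, Polynomial.coe_eval₂RingHom, Polynomial.eval₂_C, RingHom.comp_apply, map_pow]
  rw [h2, mul_pow]

/-- the value of the coordinate of the `u`-chart at the generic point -/
noncomputable def θU : L n K := (xL n K i ^ e)⁻¹ * zL n K

/-- the value of the coordinate of the `z`-chart at the generic point -/
noncomputable def θZ : L n K := (zL n K)⁻¹ * xL n K i ^ e

theorem tr_θU : Tr n K (θU n K e i) := by
  apply tr_of_mul n K (a := xF n K i ^ e)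
  have := pow_ne_zero e (xL_ne n K i)
  rw [map_pow, θU, mul_comm, ← mul_assoc]
  change xL n K i ^ e * (xL n K i ^ e)⁻¹ * _ = _
  rw [mul_inv_cancel₀ this, one_mul]

theorem tr_θZ : Tr n K (θZ n K e i) := by
  apply tr_of_mul' n K (a := xF n K i ^ e) (pow_ne_zero e (xF_ne n K i))
  rw [map_pow, θZ, mul_comm, ← mul_assoc, mul_inv_cancel₀ (zL_ne n K), one_mul]
  rfl

theorem ζ_eq_U : Spec.map (CommRingCat.ofHom (Ψ n K i (θU n K e i))) ≫ cU n K e i = ζ n K e := by
  rw [cU, map_qt, ζ]
  have h1 := pow_ne_zero e (xL_ne n K i)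
  refine qt_eq (Ψ_kC n K i _) (xL n K i ^ e)⁻¹ (IsUnit.mk0 _ (inv_ne_zero h1)) ?_ (xL n K i)⁻¹
    (IsUnit.mk0 _ (inv_ne_zero (xL_ne n K i))) ?_
  · intro l
    refine Fin.cases ?_ (fun l => ?_) l
    · simp [gU, gL, Ψ, θU]
    · simp only [gU, gL, Fin.cons_succ]
      rw [Ψ_C, inv_pow]
  · intro l
    have := Ψ_C n K i (θU n K e i) l 1
    simpa [yC] using this

theorem ζ_eq_Z : Spec.map (CommRingCat.ofHom (Ψ n K i (θZ n K e i))) ≫ cZ n K e i = ζ n K e := by
  rw [cZ, map_qt, ζ]
  have h1 := pow_ne_zero e (xL_ne n K i)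
  refine qt_eq (Ψ_kC n K i _) (zL n K)⁻¹ (IsUnit.mk0 _ (inv_ne_zero (zL_ne n K))) ?_ (xL n K i)⁻¹
    (IsUnit.mk0 _ (inv_ne_zero (xL_ne n K i))) ?_
  · intro l
    refine Fin.cases ?_ (fun l => ?_) l
    · simp only [gZ, gL, Fin.cons_zero, map_one]
      rw [inv_mul_cancel₀ (zL_ne n K)]
    · simp only [gZ, gL, Fin.cons_succ]
      rw [map_mul, Ψ_C]
      simp only [Ψ, Polynomial.coe_eval₂RingHom, Polynomial.eval₂_X, θZ, inv_pow]
      have := xL_ne n K i
      have := zL_ne n K
      field_simp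
  · intro l
    have := Ψ_C n K i (θZ n K e i) l 1
    simpa [yC] using this

theorem ker_U : (cU n K e i).ker = (ζ n K e).ker := by
  rw [← ζ_eq_U n K e i, ker_SpecMap_comp _ (Ψ_injective n K i (tr_θU n K e i))]

theorem ker_Z : (cZ n K e i).ker = (ζ n K e).ker := by
  rw [← ζ_eq_Z n K e i, ker_SpecMap_comp _ (Ψ_injective n K i (tr_θZ n K e i))]

end K138.Chart
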