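import Groth.Agent.Resolve.K138.Prod
import Groth.Agent.CycB.ImageInt
import Mathlib.AlgebraicGeometry.IdealSheaf.Functorial
import Mathlib.AlgebraicGeometry.Morphisms.Immersion

/-!
# Scheme theoretic images: charts of the image
-/

set_option autoImplicit false

universe u

open CategoryTheory AlgebraicGeometry

namespace K138.Clos

section general

variable {X T U : Scheme.{u}}

/-- A morphism factors through the closed subscheme `V(J)` if its kernel contains `J`. -/
noncomputable def lft (J : X.IdealSheafData) (f : T ⟶ X) (h : J ≤ f.ker) : T ⟶ J.subscheme :=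
  f.toImage ≫ Scheme.IdealSheafData.inclusion h

@[reassoc]
theorem lft_ι (J : X.IdealSheafData) (f : T ⟶ X) (h : J ≤ f.ker) : lft J f h ≫ J.subschemeι = f := by
  rw [lft, Category.assoc, Scheme.IdealSheafData.inclusion_subschemeι]
  exact f.toImage_imageι

theorem isOpenImmersion_lft (J : X.IdealSheafData) (f : T ⟶ X) (h : J = f.ker) [IsImmersion f] [QuasiCompact f] :
    IsOpenImmersion (lft J f h.le) := by
  subst h
  have h1 : Scheme.IdealSheafData.inclusion (le_refl f.ker) = 𝟙 _ := Scheme.IdealSheafData.inclusion_id _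
  have h2 : lft f.ker f le_rfl = f.toImage := by
    rw [← cancel_mono f.ker.subschemeι, lft_ι]
    exact f.toImage_imageι.symm
  rw [h2]
  infer_instance

theorem isImmersion_comp (g : T ⟶ U) (j : U ⟶ X) [IsClosedImmersion g] [IsOpenImmersion j] :
    IsImmersion (g ≫ j) := inferInstance

theorem mem_range_of_mem_closure (g : T ⟶ U) (j : U ⟶ X) [IsClosedImmersion g] [IsOpenImmersion j]
    {p : X} (hp : p ∈ Set.range j) (hc : p ∈ closure (Set.range (g ≫ j))) : p ∈ Set.range (g ≫ j) := by
  obtain ⟨v, rfl⟩ := hp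
  have h1 : v ∈ closure (j ⁻¹' (Set.range (g ≫ j))) := by
    rw [← j.isOpenEmbedding.isOpenMap.preimage_closure_eq_closure_preimage j.continuous]
    exact hc
  have h2 : j ⁻¹' (Set.range (g ≫ j)) = Set.range g := by
    ext w
    constructor
    · rintro ⟨t, ht⟩
      refine ⟨t, ?_⟩
      apply j.isOpenEmbedding.injective
      rw [← ht]; rfl
    · rintro ⟨t, rfl⟩
      exact ⟨t, rfl⟩
  rw [h2, g.isClosedEmbedding.isClosed_range.closure_eq] at h1
  obtain ⟨t, rfl⟩ := h1
  exact ⟨t, rfl⟩

theorem ker_SpecMap_eq_bot {R S : Type u} [CommRing R] [CommRing S] (φ : R →+* S) (hφ : Function.Injective φ) :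
    (Spec.map (CommRingCat.ofHom φ)).ker = ⊥ := by
  rw [Scheme.ker_of_isAffine]
  have h : RingHom.ker (Spec.map (CommRingCat.ofHom φ)).appTop.hom = ⊥ := by
    rw [eq_bot_iff]
    intro x hx
    have h1 := K138.Prod.SpecMap_appTop_apply φ ((Scheme.ΓSpecIso (CommRingCat.of R)).hom x)
    have h2 : (Scheme.ΓSpecIso (CommRingCat.of R)).inv ((Scheme.ΓSpecIso (CommRingCat.of R)).hom x) = x := by simp
    rw [h2] at h1
    rw [RingHom.mem_ker] at hx
    have hx' : (Spec.map (CommRingCat.ofHom φ)).appTop x = 0 := hx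
    rw [hx', map_zero] at h1
    have h3 := hφ (h1.symm.trans (map_zero φ).symm)
    have h4 := congrArg (Scheme.ΓSpecIso (CommRingCat.of R)).inv h3
    rw [h2, map_zero] at h4
    exact h4
  rw [h]
  apply Scheme.IdealSheafData.ext_of_isAffine
  simp

theorem ker_SpecMap_comp {R S : Type u} [CommRing R] [CommRing S] (φ : R →+* S) (hφ : Function.Injective φ)
    (c : Spec (CommRingCat.of R) ⟶ X) : (Spec.map (CommRingCat.ofHom φ) ≫ c).ker = c.ker := by
  rw [Scheme.Hom.ker_comp, ker_SpecMap_eq_bot φ hφ, Scheme.IdealSheafData.map_bot]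

theorem range_subschemeι (J : X.IdealSheafData) : Set.range J.subschemeι = J.support :=
  Scheme.IdealSheafData.range_subschemeι J

/-- the closed subscheme on the closure of an integral scheme is integral -/
theorem isIntegral_subscheme (f : T ⟶ X) [QuasiCompact f] [IsIntegral T] : IsIntegral f.ker.subscheme :=
  Groth.Agent.CycB.ImageInt.isIntegral_image f

theorem le_ker_of_openCover (J : X.IdealSheafData) (f : T ⟶ X) [QuasiCompact f] (𝒰 : T.OpenCover)
    (h : ∀ i, J ≤ (𝒰.f i ≫ f).ker) : J ≤ f.ker := by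
  rw [← f.iInf_ker_openCover_map_comp 𝒰]
  exact le_iInf h

end general

end K138.Clos
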