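import Groth.Agent.Resolve.K138.Chart

/-!
# The affine cover of `P_e ⊆ P^(n+1) × P^n`
-/

set_option autoImplicit false

universe u

open CategoryTheory AlgebraicGeometry HomogeneousLocalization MvPolynomial
open CategoryTheory.Limits (pullback)

namespace K138.Cover

open Groth.Agent.VarietyB.ProjHom Groth.Agent.VarietyB.ProjGlue CohB1 K138.Pt K138.PolyMap K138.Prod K138.Clos
  K138.Chart

variable (n : ℕ) (K : Type u) [Field K] (e : ℕ)

/-- the scheme `P_e` -/
noncomputable def PJ : Scheme.{u} := (ζ n K e).ker.subscheme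

/-- the embedding -/
noncomputable def ι : PJ n K e ⟶ XX (n + 1) n K := (ζ n K e).ker.subschemeι

instance : IsClosedImmersion (ι n K e) := inferInstanceAs (IsClosedImmersion (ζ n K e).ker.subschemeι)

instance proper_str (N : ℕ) : IsProper (str N K) := isProper_str N K

instance : QuasiSeparatedSpace (XX (n + 1) n K) := by
  have h : QuasiSeparated (pullback.snd (str (n + 1) K) (str n K) ≫ str n K) := inferInstance
  exact (quasiSeparated_iff_quasiSeparatedSpace _).mp h

/-- the projection to the base -/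
noncomputable def q : PJ n K e ⟶ Proj (polyGrading n K) := ι n K e ≫ pullback.snd _ _

/-- the projection to `P^(n+1)` -/
noncomputable def b : PJ n K e ⟶ Proj (polyGrading (n + 1) K) := ι n K e ≫ pullback.fst _ _

theorem isIntegral_PJ : IsIntegral (PJ n K e) := isIntegral_subscheme (ζ n K e)

theorem q_str : q n K e ≫ str n K = b n K e ≫ str (n + 1) K := by
  rw [q, b, Category.assoc, Category.assoc, pullback.condition]

variable (i : Fin (n + 1))

/-- the `u`-chart -/
noncomputable def jU : Spec (CommRingCat.of (Polynomial (A n K i))) ⟶ PJ n K e :=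
  lft (ζ n K e).ker (cU n K e i) (ker_U n K e i).ge

/-- the `z`-chart -/
noncomputable def jZ : Spec (CommRingCat.of (Polynomial (A n K i))) ⟶ PJ n K e :=
  lft (ζ n K e).ker (cZ n K e i) (ker_Z n K e i).ge

@[reassoc]
theorem jU_ι : jU n K e i ≫ ι n K e = cU n K e i := lft_ι _ _ _

@[reassoc]
theorem jZ_ι : jZ n K e i ≫ ι n K e = cZ n K e i := lft_ι _ _ _

instance : IsOpenImmersion (jU n K e i) := by
  have := isImmersion_cU n K e i
  exact isOpenImmersion_lft _ _ (ker_U n K e i).symm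

instance : IsOpenImmersion (jZ n K e i) := by
  have := isImmersion_cZ n K e i
  exact isOpenImmersion_lft _ _ (ker_Z n K e i).symm

theorem ι_mem_closure (p : PJ n K e) : ι n K e p ∈ closure (Set.range (ζ n K e)) := by
  rw [← Scheme.Hom.support_ker, ← Scheme.IdealSheafData.range_subschemeι]
  exact ⟨p, rfl⟩

theorem closure_U : closure (Set.range (cU n K e i)) = closure (Set.range (ζ n K e)) := by
  rw [← Scheme.Hom.support_ker, ← Scheme.Hom.support_ker, ker_U]

theorem closure_Z : closure (Set.range (cZ n K e i)) = closure (Set.range (ζ n K e)) := by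
  rw [← Scheme.Hom.support_ker, ← Scheme.Hom.support_ker, ker_Z]

theorem ι_injective : Function.Injective (ι n K e) := (ι n K e).isClosedEmbedding.injective

theorem mem_range_jU (p : PJ n K e) (h1 : b n K e p ∈ Proj.basicOpen (polyGrading (n + 1) K) (X i.succ))
    (h2 : q n K e p ∈ Proj.basicOpen (polyGrading n K) (X i)) : p ∈ Set.range (jU n K e i) := by
  have h3 := mem_range_aff (K := K) i.succ i (ι n K e p) h1 h2
  have h4 := ι_mem_closure n K e p
  rw [← closure_U n K e i] at h4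
  have h5 := isClosedImmersion_qc (kC n K i) (gU n K e i) i.succ (gU_succ n K e i) (yC n K i) i (yC_self n K i)
    (gen_U n K e i)
  rw [cU, ← qc_aff] at h4
  obtain ⟨t, ht⟩ := mem_range_of_mem_closure _ _ h3 h4
  refine ⟨t, ι_injective n K e ?_⟩
  rw [← ht, qc_aff]
  change _ = cU n K e i t
  rw [← jU_ι]; rfl

theorem mem_range_jZ (p : PJ n K e) (h1 : b n K e p ∈ Proj.basicOpen (polyGrading (n + 1) K) (X 0))
    (h2 : q n K e p ∈ Proj.basicOpen (polyGrading n K) (X i)) : p ∈ Set.range (jZ n K e i) := by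
  have h3 := mem_range_aff (K := K) 0 i (ι n K e p) h1 h2
  have h4 := ι_mem_closure n K e p
  rw [← closure_Z n K e i] at h4
  have h5 := isClosedImmersion_qc (kC n K i) (gZ n K e i) 0 (gZ_zero n K e i) (yC n K i) i (yC_self n K i)
    (gen_Z n K e i)
  rw [cZ, ← qc_aff] at h4
  obtain ⟨t, ht⟩ := mem_range_of_mem_closure _ _ h3 h4
  refine ⟨t, ι_injective n K e ?_⟩
  rw [← ht, qc_aff]
  change _ = cZ n K e i t
  rw [← jZ_ι]; rfl

/-- on `P_e` the coordinate `y_j x_i^e = y_i x_j^e` -/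
theorem mem_of_mem (j : Fin (n + 1)) (p : PJ n K e)
    (h1 : b n K e p ∈ Proj.basicOpen (polyGrading (n + 1) K) (X j.succ))
    (h2 : q n K e p ∈ Proj.basicOpen (polyGrading n K) (X i)) :
    b n K e p ∈ Proj.basicOpen (polyGrading (n + 1) K) (X i.succ) := by
  have hj := pow_ne_zero e (xL_ne n K j)
  have hi := xL_ne n K i
  let g' : Fin (n + 1 + 1) → L n K := fun l => (xL n K j ^ e)⁻¹ * gL n K e l
  let y' : Fin (n + 1) → L n K := fun l => (xL n K i)⁻¹ * xL n K l
  let S : Subring (L n K) := Subring.closure (Set.range (kL n K) ∪ Set.range g' ∪ Set.range y')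
  have hk : ∀ c, kL n K c ∈ S := fun c => Subring.subset_closure (Or.inl (Or.inl ⟨c, rfl⟩))
  have hg : ∀ l, g' l ∈ S := fun l => Subring.subset_closure (Or.inl (Or.inr ⟨l, rfl⟩))
  have hy : ∀ l, y' l ∈ S := fun l => Subring.subset_closure (Or.inr ⟨l, rfl⟩)
  let k'' : K →+* S := (kL n K).codRestrict S hk
  let g'' : Fin (n + 1 + 1) → S := fun l => ⟨g' l, hg l⟩
  let y'' : Fin (n + 1) → S := fun l => ⟨y' l, hy l⟩
  have hgj : g'' j.succ = 1 := by
    apply Subtype.ext
    change (xL n K j ^ e)⁻¹ * gL n K e j.succ = 1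
    simp only [gL, Fin.cons_succ]
    exact inv_mul_cancel₀ hj
  have hyi : y'' i = 1 := by
    apply Subtype.ext
    exact inv_mul_cancel₀ hi
  have hgen : Gen k'' g'' y'' := by
    unfold Gen
    rw [Subring.eq_top_iff']
    rintro ⟨x, hx⟩
    have h3 : S ≤ (Subring.closure (Set.range k'' ∪ Set.range g'' ∪ Set.range y'')).map S.subtype := by
      rw [Subring.closure_le]
      rintro _ ((⟨c, rfl⟩ | ⟨l, rfl⟩) | ⟨l, rfl⟩)
      · exact ⟨k'' c, Subring.subset_closure (Or.inl (Or.inl ⟨c, rfl⟩)), rfl⟩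
      · exact ⟨g'' l, Subring.subset_closure (Or.inl (Or.inr ⟨l, rfl⟩)), rfl⟩
      · exact ⟨y'' l, Subring.subset_closure (Or.inr ⟨l, rfl⟩), rfl⟩
    obtain ⟨z, hz, hz'⟩ := h3 hx
    have : z = ⟨x, hx⟩ := Subtype.ext hz'
    rw [← this]; exact hz
  have hcl := isClosedImmersion_qc k'' g'' j.succ hgj y'' i hyi hgen
  have hu1 : IsUnit (g'' j.succ) := by rw [hgj]; exact isUnit_one
  have hu2 : IsUnit (y'' i) := by rw [hyi]; exact isUnit_one
  have hζ : Spec.map (CommRingCat.ofHom S.subtype) ≫ qt k'' g'' j.succ hu1 y'' i hu2 = ζ n K e := by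
    rw [map_qt, ζ]
    exact qt_eq (by ext c; rfl) (xL n K j ^ e)⁻¹ (IsUnit.mk0 _ (inv_ne_zero hj)) (fun l => rfl)
      (xL n K i)⁻¹ (IsUnit.mk0 _ (inv_ne_zero hi)) (fun l => rfl)
  have hker : (qt k'' g'' j.succ hu1 y'' i hu2).ker = (ζ n K e).ker := by
    rw [← hζ, ker_SpecMap_comp _ S.subtype_injective]
  have h3 := mem_range_aff (K := K) j.succ i (ι n K e p) h1 h2
  have h4 := ι_mem_closure n K e p
  rw [← Scheme.Hom.support_ker, ← hker, Scheme.Hom.support_ker, ← qc_aff] at h4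
  obtain ⟨t, ht⟩ := mem_range_of_mem_closure _ _ h3 h4
  have h5 : b n K e p = ptX k'' g'' j.succ hu1 t := by
    change pullback.fst (str (n + 1) K) (str n K) (ι n K e p) = _
    rw [← ht, qc_aff, ← qt_fst k'' g'' j.succ hu1 y'' i hu2]
    rfl
  rw [h5, ptX_preimage _ _ _ _ (X_mem _) Nat.one_pos, ev_X]
  have h6 : IsUnit (g'' i.succ) := by
    refine IsUnit.of_mul_eq_one (y'' j ^ e) ?_
    apply Subtype.ext
    change (xL n K j ^ e)⁻¹ * gL n K e i.succ * ((xL n K i)⁻¹ * xL n K j) ^ e = 1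
    simp only [gL, Fin.cons_succ]
    have := pow_ne_zero e hi
    rw [mul_pow, inv_pow]
    field_simp
  intro h7
  exact t.2.ne_top (Ideal.eq_top_of_isUnit_mem _ h7 h6)

/-- the charts cover -/
theorem exists_chart (p : PJ n K e) : ∃ i, q n K e p ∈ Proj.basicOpen (polyGrading n K) (X i) ∧
    (p ∈ Set.range (jU n K e i) ∨ p ∈ Set.range (jZ n K e i)) := by
  obtain ⟨i, hi⟩ := TopologicalSpace.Opens.mem_iSup.mp ((iSup_X n K).ge (TopologicalSpace.Opens.mem_top (q n K e p)))
  obtain ⟨a, ha⟩ := TopologicalSpace.Opens.mem_iSup.mp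
    ((iSup_X (n + 1) K).ge (TopologicalSpace.Opens.mem_top (b n K e p)))
  refine ⟨i, hi, ?_⟩
  revert ha
  refine Fin.cases (fun ha => ?_) (fun j ha => ?_) a
  · exact Or.inr (mem_range_jZ n K e i p ha hi)
  · exact Or.inl (mem_range_jU n K e i p (mem_of_mem n K e i j p ha hi) hi)

theorem awayι_eq_ptX : Proj.awayι (polyGrading n K) (X i) (X_mem i) Nat.one_pos =
    ptX (kA (X i)) (rt (n := n) (K := K) i) i (by rw [rt_self]; exact isUnit_one) := by
  have h : awayLift (polyGrading n K) (ev (kA (X i)) (rt (n := n) (K := K) i)) (X i)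
      (isUnit_ev_X (by rw [rt_self]; exact isUnit_one)) = RingHom.id _ := by
    symm
    refine away_hom_ext (polyGrading n K) (X_mem i) _ _ _ ?_
    intro m a ha
    rw [ev_X, rt_self, one_pow, mul_one, RingHom.id_apply]
    exact (Groth.Agent.VarietyB.ProjStd.deh_of_isHomogeneous (Fin (n + 1)) K i a ha).symm
  rw [ptX, pt, h]
  have h2 : Spec.map (CommRingCat.ofHom (RingHom.id (Away (polyGrading n K) (X i)))) = 𝟙 _ := Spec.map_id _
  rw [h2, Category.id_comp]

theorem ptX_yC : ptX (kC n K i) (yC n K i) i (by rw [yC_self]; exact isUnit_one) =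
    Spec.map (CommRingCat.ofHom Polynomial.C) ≫
      Proj.awayι (polyGrading n K) (X i) (X_mem i) Nat.one_pos := by
  rw [awayι_eq_ptX, map_ptX]
  rfl

theorem jU_q : jU n K e i ≫ q n K e = Spec.map (CommRingCat.ofHom Polynomial.C) ≫
    Proj.awayι (polyGrading n K) (X i) (X_mem i) Nat.one_pos := by
  rw [q, jU_ι_assoc, cU, qt_snd, ptX_yC]

theorem jZ_q : jZ n K e i ≫ q n K e = Spec.map (CommRingCat.ofHom Polynomial.C) ≫
    Proj.awayι (polyGrading n K) (X i) (X_mem i) Nat.one_pos := by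
  rw [q, jZ_ι_assoc, cZ, qt_snd, ptX_yC]

theorem jU_b : jU n K e i ≫ b n K e = ptX (kC n K i) (gU n K e i) i.succ (by rw [gU_succ]; exact isUnit_one) := by
  rw [b, jU_ι_assoc, cU, qt_fst]

theorem jZ_b : jZ n K e i ≫ b n K e = ptX (kC n K i) (gZ n K e i) 0 (by rw [gZ_zero]; exact isUnit_one) := by
  rw [b, jZ_ι_assoc, cZ, qt_fst]

theorem b_jU_mem (t : Spec (CommRingCat.of (Polynomial (A n K i)))) :
    b n K e (jU n K e i t) ∈ Proj.basicOpen (polyGrading (n + 1) K) (X i.succ) := by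
  rw [← Scheme.Hom.comp_apply, jU_b, ptX_preimage _ _ _ _ (X_mem _) Nat.one_pos, ev_X, gU_succ]
  exact fun h => t.2.ne_top ((Ideal.eq_top_iff_one _).mpr h)

theorem b_jZ_mem (t : Spec (CommRingCat.of (Polynomial (A n K i)))) :
    b n K e (jZ n K e i t) ∈ Proj.basicOpen (polyGrading (n + 1) K) (X 0) := by
  rw [← Scheme.Hom.comp_apply, jZ_b, ptX_preimage _ _ _ _ (X_mem _) Nat.one_pos, ev_X, gZ_zero]
  exact fun h => t.2.ne_top ((Ideal.eq_top_iff_one _).mpr h)

theorem q_jU_mem (t : Spec (CommRingCat.of (Polynomial (A n K i)))) :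
    q n K e (jU n K e i t) ∈ Proj.basicOpen (polyGrading n K) (X i) := by
  rw [← Scheme.Hom.comp_apply, jU_q, ← Proj.opensRange_awayι (polyGrading n K) (X i) (X_mem i) Nat.one_pos]
  exact ⟨_, rfl⟩

theorem q_jZ_mem (t : Spec (CommRingCat.of (Polynomial (A n K i)))) :
    q n K e (jZ n K e i t) ∈ Proj.basicOpen (polyGrading n K) (X i) := by
  rw [← Scheme.Hom.comp_apply, jZ_q, ← Proj.opensRange_awayι (polyGrading n K) (X i) (X_mem i) Nat.one_pos]
  exact ⟨_, rfl⟩

end K138.Cover
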