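import Groth.Agent.Resolve.K138.Sect
import Groth.Agent.S9693
import Groth.Agent.CohqB.ProjBC
import Groth.Agent.Sga5.ProjSmooth
import Groth.Agent.Resolve.K124.Tower
import Mathlib.AlgebraicGeometry.Morphisms.IsIso

/-!
# Geometry of `P_e`: smoothness, projectivity, the birational morphism `P_1 → P^(n+1)`
-/

set_option autoImplicit false

universe u

open CategoryTheory AlgebraicGeometry HomogeneousLocalization MvPolynomial
open CategoryTheory.Limits (pullback)

namespace K138.Geo

open Groth.Agent.VarietyB.ProjHom Groth.Agent.VarietyB.ProjGlue CohB1 K138.Pt K138.PolyMap K138.Prod K138.Clos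
  K138.Chart K138.Cover K138.Alg K138.Hmap K138.Sect

/-- A property local at the source can be checked near every point. -/
theorem of_forall_exists (P : MorphismProperty Scheme.{u}) [IsZariskiLocalAtSource P] {X Y : Scheme.{u}} (f : X ⟶ Y)
    (h : ∀ x : X, ∃ (W : Scheme.{u}) (j : W ⟶ X), IsOpenImmersion j ∧ x ∈ Set.range j ∧ P (j ≫ f)) : P f := by
  choose W j h1 h2 h3 using h
  let 𝒰 : X.OpenCover := .mkOfCovers X W j (fun x => ⟨x, h2 x⟩) h1
  exact (IsZariskiLocalAtSource.iff_of_openCover 𝒰).mpr h3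

variable (n : ℕ) (K : Type u) [Field K] (e : ℕ)

theorem smooth_aux (i : Fin (n + 1)) : SmoothOfRelativeDimension 1 (Spec.map (CommRingCat.ofHom
    (Polynomial.C : A n K i →+* Polynomial (A n K i))) ≫
    Proj.awayι (polyGrading n K) (X i) (X_mem i) Nat.one_pos) := by
  have h1 := smooth_polynomial (A n K i)
  have h2 : SmoothOfRelativeDimension 0 (Proj.awayι (polyGrading n K) (X i) (X_mem i) Nat.one_pos) := inferInstance
  exact smoothOfRelativeDimension_comp (n := 1) (m := 0) _ _

theorem smooth_q : SmoothOfRelativeDimension 1 (q n K e) := by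
  refine of_forall_exists (@SmoothOfRelativeDimension 1) (q n K e) fun x => ?_
  obtain ⟨i, -, h | h⟩ := exists_chart n K e x
  · refine ⟨_, jU n K e i, inferInstance, h, ?_⟩
    rw [jU_q]; exact smooth_aux n K i
  · refine ⟨_, jZ n K e i, inferInstance, h, ?_⟩
    rw [jZ_q]; exact smooth_aux n K i

theorem isHProjective_str (N : ℕ) : RelProj.IsHProjective (str N K) := by
  refine ⟨N, (Groth.Agent.CohqB.ProjBC.projSpaceOverIso N K).inv, inferInstance, ?_⟩
  exact Groth.Agent.CohqB.ProjBC.projSpaceOverIso_inv_toBase N K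

theorem isHProjective_q : RelProj.IsHProjective (q n K e) := by
  obtain ⟨N, c, hc, h⟩ := Groth.Agent.S9693.result (str (n + 1) K) (isHProjective_str K (n + 1)) (str n K)
  exact ⟨N, ι n K e ≫ c, inferInstance, by rw [Category.assoc, h]; rfl⟩

theorem smooth_b : Smooth (b n K e ≫ str (n + 1) K) := by
  rw [← q_str]
  have h1 := smooth_q n K e
  have h2 : Smooth (q n K e) := SmoothOfRelativeDimension.smooth 1 _
  have h3 : SmoothOfRelativeDimension n (str n K) := Groth.Agent.Sga5.ProjSmooth.smooth_toSpec n K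
  have h4 : Smooth (str n K) := SmoothOfRelativeDimension.smooth n _
  infer_instance

section bir

theorem ev_gL_injective : Function.Injective (ev (kL n K) (gL n K 1)) := by
  rw [injective_iff_map_eq_zero]
  intro f hf
  rw [ev_eq] at hf
  have h1 : ev (kL n K) (fun l : Fin (n + 1) => gL n K 1 l.succ) =
      (iF n K).comp (algebraMap (MvPolynomial (Fin (n + 1)) K) (F n K)) := by
    rw [← ev_kF, comp_ev]
    congr 1
    funext l
    simp [gL, xL]
  rw [h1, ← Polynomial.eval₂_map] at hf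
  have h2 := tr_zL n K _ hf
  rw [Polynomial.map_eq_zero_iff (IsFractionRing.injective _ _)] at h2
  exact (map_eq_zero_iff _ (finSuccEquiv K (n + 1)).injective).mp h2

theorem isUnit_gU (i : Fin (n + 1)) : IsUnit (gU n K e i i.succ) := by rw [gU_succ]; exact isUnit_one

/-- the homomorphism of the chart -/
noncomputable def α : Away (polyGrading (n + 1) K) (X (Fin.succ 0) : MvPolynomial (Fin (n + 1 + 1)) K) →+*
    Polynomial (A n K 0) :=
  awayLift (polyGrading (n + 1) K) (ev (kC n K 0) (gU n K 1 0)) (X (Fin.succ 0)) (isUnit_ev_X (isUnit_gU n K 1 0))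

theorem α_rat (l : Fin (n + 1 + 1)) : α n K (rat (X_mem _) (X l) (X_mem l)) = gU n K 1 0 l := by
  have h := awayLift_rat (kC n K 0) (gU n K 1 0) (X_mem (Fin.succ 0))
      (isUnit_ev_X (isUnit_gU n K 1 0)) (X l) (X_mem l)
  rw [ev_X, ev_X, gU_succ, mul_one] at h
  exact h

theorem α_surjective : Function.Surjective (α n K) := by
  rw [← RingHom.range_eq_top]
  apply gen_aux
  · intro c
    exact ⟨kA _ c, congr($(awayLift_kA (kC n K 0) (gU n K 1 0) (X_mem (Fin.succ 0))
      (isUnit_ev_X (isUnit_gU n K 1 0))) c)⟩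
  · intro l
    refine ⟨rat (X_mem _) (X l.succ) (X_mem _), ?_⟩
    rw [α_rat]
    simp [gU, yC]
  · refine ⟨rat (X_mem _) (X 0) (X_mem _), ?_⟩
    rw [α_rat]
    simp [gU]

theorem α_injective : Function.Injective (α n K) := by
  rw [injective_iff_map_eq_zero]
  intro a ha
  obtain ⟨m, b, hb, rfl⟩ := Away.mk_surjective (polyGrading (n + 1) K) (X_mem (Fin.succ 0)) a
  have h1 := awayLift_mk (polyGrading (n + 1) K) (ev (kC n K 0) (gU n K 1 0))
    (isUnit_ev_X (isUnit_gU n K 1 0)) (X_mem (Fin.succ 0)) m b hb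
  have h2 : α n K (Away.mk (polyGrading (n + 1) K) (X_mem (Fin.succ 0)) m b hb) *
    ev (kC n K 0) (gU n K 1 0) (X (Fin.succ 0)) ^ m = ev (kC n K 0) (gU n K 1 0) b := h1
  rw [ha, zero_mul] at h2
  have h3 := congrArg (Ψ n K 0 (θU n K 1 0)) h2
  rw [map_zero, ← RingHom.comp_apply, comp_ev, Ψ_kC] at h3
  have h4 : (fun l => Ψ n K 0 (θU n K 1 0) (gU n K 1 0 l)) = fun l => (xL n K 0 ^ 1)⁻¹ * gL n K 1 l := by
    funext l
    refine Fin.cases ?_ (fun l => ?_) l
    · simp [gU, gL, Ψ, θU]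
    · simp only [gU, gL, Fin.cons_succ]
      rw [Ψ_C, inv_pow]
  rw [h4] at h3
  have h5 := Groth.Agent.VarietyB.ProjGlue.eval₂Hom_smul_of_isHomogeneous (kL n K) (gL n K 1) (xL n K 0 ^ 1)⁻¹
    (φ := b) (n := m • 1) hb
  have h6 := h3.trans h5
  have h7 : ev (kL n K) (gL n K 1) b = 0 := by
    have := h6.symm
    rw [mul_eq_zero] at this
    refine this.resolve_left (pow_ne_zero _ (inv_ne_zero (pow_ne_zero _ (xL_ne n K 0))))
  have h8 : b = 0 := ev_gL_injective n K (h7.trans (map_zero _).symm)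
  subst h8
  apply HomogeneousLocalization.val_injective
  rw [Away.val_mk, HomogeneousLocalization.val_zero, Localization.mk_zero]

theorem jU_b_eq : jU n K 1 0 ≫ b n K 1 = Spec.map (CommRingCat.ofHom (α n K)) ≫
    Proj.awayι (polyGrading (n + 1) K) (X (Fin.succ 0)) (X_mem _) Nat.one_pos := by
  rw [jU_b]; rfl

instance isIso_α : IsIso (Spec.map (CommRingCat.ofHom (α n K))) := by
  have : IsIso (CommRingCat.ofHom (α n K)) := by
    rw [ConcreteCategory.isIso_iff_bijective]
    exact ⟨α_injective n K, α_surjective n K⟩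
  infer_instance

theorem range_jU_b : Set.range (jU n K 1 0) =
    b n K 1 ⁻¹ᵁ Proj.basicOpen (polyGrading (n + 1) K) (X (Fin.succ 0)) := by
  ext p
  constructor
  · rintro ⟨t, rfl⟩
    exact b_jU_mem n K 1 0 t
  · intro hp
    have hp' : b n K 1 p ∈ Proj.basicOpen (polyGrading (n + 1) K) (X (Fin.succ 0)) := hp
    obtain ⟨i, hi, -⟩ := exists_chart n K 1 p
    have h1 := mem_of_mem n K 1 i 0 p hp' hi
    obtain ⟨t, rfl⟩ := mem_range_jU n K 1 i p h1 hi
    apply mem_range_jU n K 1 0 _ hp'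
    rw [← Scheme.Hom.comp_apply, jU_b, ptX_preimage _ _ _ _ (X_mem _) Nat.one_pos, ev_X] at hp'
    rw [← Scheme.Hom.comp_apply, jU_q, ← ptX_yC, ptX_preimage _ _ _ _ (X_mem _) Nat.one_pos, ev_X]
    simpa [gU, yC] using hp'

theorem isBir_b : K84.Iface.IsBir (b n K 1) := by
  let V := Proj.basicOpen (polyGrading (n + 1) K) (X (Fin.succ 0))
  refine ⟨V, ?_, ?_⟩
  · exact ⟨_, b_jU_mem n K 1 0 (genericPoint _)⟩
  · let W := b n K 1 ⁻¹ᵁ V
    have hr : Set.range (jU n K 1 0) = Set.range W.ι := by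
      rw [range_jU_b, Scheme.Opens.range_ι]
    let φ := IsOpenImmersion.isoOfRangeEq (jU n K 1 0) W.ι hr
    have h1 : φ.hom ≫ W.ι = jU n K 1 0 := IsOpenImmersion.isoOfRangeEq_hom_fac _ _ _
    have h2 : W.ι ≫ b n K 1 = φ.inv ≫ Spec.map (CommRingCat.ofHom (α n K)) ≫
        Proj.awayι (polyGrading (n + 1) K) (X (Fin.succ 0)) (X_mem _) Nat.one_pos := by
      rw [Iso.eq_inv_comp, ← Category.assoc, h1, jU_b_eq]
    have h3 : IsOpenImmersion (b n K 1 ∣_ V) := by
      have : IsOpenImmersion ((b n K 1 ∣_ V) ≫ V.ι) := by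
        rw [morphismRestrict_ι, h2]; infer_instance
      exact IsOpenImmersion.of_comp _ V.ι
    have h4 : Surjective (b n K 1 ∣_ V) := by
      constructor
      intro v
      have hv : V.ι v ∈ Set.range (Spec.map (CommRingCat.ofHom (α n K)) ≫
          Proj.awayι (polyGrading (n + 1) K) (X (Fin.succ 0)) (X_mem _) Nat.one_pos) := by
        have h5 : V.ι v ∈ Proj.basicOpen (polyGrading (n + 1) K) (X (Fin.succ 0)) := v.2
        rw [← Proj.opensRange_awayι (polyGrading (n + 1) K) (X (Fin.succ 0)) (X_mem _) Nat.one_pos] at h5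
        obtain ⟨w, hw⟩ := h5
        obtain ⟨w', rfl⟩ := (Spec.map (CommRingCat.ofHom (α n K))).surjective w
        exact ⟨w', hw⟩
      obtain ⟨w, hw⟩ := hv
      refine ⟨φ.hom w, ?_⟩
      apply V.ι.isOpenEmbedding.injective
      rw [← hw, ← jU_b_eq, ← h1, ← Scheme.Hom.comp_apply, ← Scheme.Hom.comp_apply, morphismRestrict_ι,
        Category.assoc]
    exact (isIso_iff_isOpenImmersion_and_surjective _).mpr ⟨h3, h4⟩

end bir

end K138.Geo
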