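import Groth.Agent.Resolve.K138.Cover
import Groth.Agent.Resolve.K138.Alg

/-!
# The finite morphism `H : P_1 → P_e` given by a form `h` of degree `e`, monic in `z`
-/

set_option autoImplicit false

universe u

open CategoryTheory AlgebraicGeometry HomogeneousLocalization MvPolynomial
open CategoryTheory.Limits (pullback)

namespace K138.Hmap

open Groth.Agent.VarietyB.ProjHom Groth.Agent.VarietyB.ProjGlue CohB1 K138.Pt K138.PolyMap K138.Prod K138.Clos
  K138.Chart K138.Cover K138.Alg

theorem ev_eq {K B : Type u} [CommRing K] [CommRing B] {n : ℕ} (k : K →+* B) (g : Fin (n + 1 + 1) → B)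
    (f : MvPolynomial (Fin (n + 1 + 1)) K) :
    ev k g f = Polynomial.eval₂ (ev k (fun l : Fin (n + 1) => g l.succ)) (g 0) (finSuccEquiv K (n + 1) f) := by
  have h : ev k g = (Polynomial.eval₂RingHom (ev k (fun l : Fin (n + 1) => g l.succ)) (g 0)).comp
      (finSuccEquiv K (n + 1)).toRingEquiv.toRingHom := by
    apply MvPolynomial.ringHom_ext
    · intro r
      have : (finSuccEquiv K (n + 1)) (C r) = Polynomial.C (C r) := by
        rw [finSuccEquiv_apply]; simp
      change _ = Polynomial.eval₂ _ _ ((finSuccEquiv K (n + 1)) (C r))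
      rw [this, Polynomial.eval₂_C]
      simp
    · intro i
      change _ = Polynomial.eval₂ _ _ ((finSuccEquiv K (n + 1)) (X i))
      refine Fin.cases ?_ (fun j => ?_) i
      · rw [finSuccEquiv_X_zero, Polynomial.eval₂_X, ev_X]
      · rw [finSuccEquiv_X_succ, Polynomial.eval₂_C, ev_X, ev_X]
  exact congr($h f)

section cover

variable {K : Type u} [CommRing K] {n : ℕ} (e : ℕ)

/-- The equations of a map to `P^(n+1)`. -/
noncomputable def fH (h : MvPolynomial (Fin (n + 1 + 1)) K) :
    Fin (n + 1 + 1) → MvPolynomial (Fin (n + 1 + 1)) K :=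
  Fin.cons h (fun l => X l.succ ^ e)

theorem fH_mem {h : MvPolynomial (Fin (n + 1 + 1)) K} (hh : h ∈ polyGrading (n + 1) K e) (l : Fin (n + 1 + 1)) :
    fH e h l ∈ polyGrading (n + 1) K e := by
  refine Fin.cases ?_ (fun j => ?_) l
  · exact hh
  · simp only [fH, Fin.cons_succ]
    have := SetLike.pow_mem_graded (A := polyGrading (n + 1) K) e (X_mem j.succ)
    simpa using this

theorem sub_mem_span (f : MvPolynomial (Fin (n + 1 + 1)) K) :
    f - ev C (Fin.cons (X 0) (fun _ : Fin (n + 1) => (0 : MvPolynomial (Fin (n + 1 + 1)) K))) f ∈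
      Ideal.span (Set.range fun l : Fin (n + 1) => (X l.succ : MvPolynomial (Fin (n + 1 + 1)) K)) := by
  set I := Ideal.span (Set.range fun l : Fin (n + 1) => (X l.succ : MvPolynomial (Fin (n + 1 + 1)) K))
  have h : (Ideal.Quotient.mk I).comp (ev C (Fin.cons (X 0)
      (fun _ : Fin (n + 1) => (0 : MvPolynomial (Fin (n + 1 + 1)) K)))) = Ideal.Quotient.mk I := by
    apply MvPolynomial.ringHom_ext
    · intro r; simp
    · intro i
      rw [RingHom.comp_apply, ev_X]
      refine Fin.cases ?_ (fun j => ?_) i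
      · simp
      · rw [Fin.cons_succ, map_zero]
        symm
        rw [Ideal.Quotient.eq_zero_iff_mem]
        exact Ideal.subset_span ⟨j, rfl⟩
  rw [← Ideal.Quotient.eq]
  exact (congr($h f)).symm

theorem ev_monic {h : MvPolynomial (Fin (n + 1 + 1)) K} (hh : h ∈ polyGrading (n + 1) K e)
    (hm : (finSuccEquiv K (n + 1) h).Monic) (hd : (finSuccEquiv K (n + 1) h).natDegree = e) :
    ev C (Fin.cons (X 0) (fun _ : Fin (n + 1) => (0 : MvPolynomial (Fin (n + 1 + 1)) K))) h = X 0 ^ e := by
  rw [ev_eq]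
  simp only [Fin.cons_zero, Fin.cons_succ]
  rw [Polynomial.eval₂_eq_sum_range, hd, Finset.sum_range_succ, Finset.sum_eq_zero, zero_add]
  · have : (finSuccEquiv K (n + 1) h).coeff e = 1 := by rw [← hd]; exact hm
    rw [this, map_one, one_mul]
  · intro i hi
    rw [Finset.mem_range] at hi
    have h1 : ((finSuccEquiv K (n + 1) h).coeff i).IsHomogeneous (e - i) :=
      IsHomogeneous.finSuccEquiv_coeff_isHomogeneous hh i (e - i) (by omega)
    have h2 : ev (B := MvPolynomial (Fin (n + 1 + 1)) K) C (fun _ : Fin (n + 1) => 0)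
        ((finSuccEquiv K (n + 1) h).coeff i) = 0 := by
      have h3 : ev (B := MvPolynomial (Fin (n + 1 + 1)) K) C (fun _ : Fin (n + 1) => 0) =
          C.comp (constantCoeff (σ := Fin (n + 1)) (R := K)) := by
        apply MvPolynomial.ringHom_ext
        · intro r; simp
        · intro i; simp
      rw [h3, RingHom.comp_apply]
      have h4 : constantCoeff ((finSuccEquiv K (n + 1) h).coeff i) = 0 := by
        apply h1.coeff_eq_zero
        simp only [map_zero]
        omega
      rw [h4, map_zero]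
    rw [h2, zero_mul]

/-- The coordinates `h, x_0^e, …, x_n^e` have no common zero. -/
theorem iSup_fH {h : MvPolynomial (Fin (n + 1 + 1)) K} (hh : h ∈ polyGrading (n + 1) K e)
    (hm : (finSuccEquiv K (n + 1) h).Monic) (hd : (finSuccEquiv K (n + 1) h).natDegree = e) :
    ⨆ i, Proj.basicOpen (polyGrading (n + 1) K) (fH e h i) = ⊤ := by
  rw [eq_top_iff]
  intro x _
  rw [TopologicalSpace.Opens.mem_iSup]
  by_contra! hx
  have hx' : ∀ i, fH e h i ∈ x.asHomogeneousIdeal := fun i => by
    have := hx i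
    rw [Proj.mem_basicOpen] at this
    simpa using this
  have hpr := x.isPrime
  have h1 : ∀ l : Fin (n + 1), (X l.succ : MvPolynomial (Fin (n + 1 + 1)) K) ∈ x.asHomogeneousIdeal := fun l => by
    have := hx' l.succ
    simp only [fH, Fin.cons_succ] at this
    exact hpr.mem_of_pow_mem _ this
  have h2 : (X 0 : MvPolynomial (Fin (n + 1 + 1)) K) ∈ x.asHomogeneousIdeal := by
    have h3 := sub_mem_span h
    rw [ev_monic e hh hm hd] at h3
    have h4 : Ideal.span (Set.range fun l : Fin (n + 1) => (X l.succ : MvPolynomial (Fin (n + 1 + 1)) K)) ≤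
        x.asHomogeneousIdeal.toIdeal := by
      rw [Ideal.span_le]
      rintro _ ⟨l, rfl⟩
      exact h1 l
    have h5 : h ∈ x.asHomogeneousIdeal.toIdeal := hx' 0
    have h6 := x.asHomogeneousIdeal.toIdeal.sub_mem h5 (h4 h3)
    rw [sub_sub_cancel] at h6
    exact hpr.mem_of_pow_mem _ h6
  obtain ⟨a, ha⟩ := TopologicalSpace.Opens.mem_iSup.mp
    ((iSup_X (n + 1) K).ge (TopologicalSpace.Opens.mem_top x))
  rw [Proj.mem_basicOpen] at ha
  revert ha
  refine Fin.cases (fun ha => ha h2) (fun j ha => ha (h1 j)) a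

end cover

variable {n : ℕ} {K : Type u} [Field K] {e : ℕ} (he : 0 < e) {h : MvPolynomial (Fin (n + 1 + 1)) K}
  (hh : h ∈ polyGrading (n + 1) K e) (hm : (finSuccEquiv K (n + 1) h).Monic)
  (hd : (finSuccEquiv K (n + 1) h).natDegree = e)

/-- the endomorphism of `P^(n+1)` -/
noncomputable def Φ : Proj (polyGrading (n + 1) K) ⟶ Proj (polyGrading (n + 1) K) :=
  pm he (fH_mem e hh) (iSup_fH e hh hm hd)

theorem Φ_str : Φ he hh hm hd ≫ str (n + 1) K = str (n + 1) K := pm_toSpec _ _ _

/-- the endomorphism of `P^(n+1) × P^n` -/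
noncomputable def H' : XX (n + 1) n K ⟶ XX (n + 1) n K :=
  pullback.lift (pullback.fst _ _ ≫ Φ he hh hm hd) (pullback.snd _ _) (by
    rw [Category.assoc, Φ_str, pullback.condition])

@[reassoc]
theorem H'_fst : H' he hh hm hd ≫ pullback.fst _ _ = pullback.fst _ _ ≫ Φ he hh hm hd := pullback.lift_fst _ _ _

@[reassoc]
theorem H'_snd : H' he hh hm hd ≫ pullback.snd _ _ = pullback.snd _ _ := pullback.lift_snd _ _ _

theorem isPullback_H' : IsPullback (H' he hh hm hd) (pullback.fst _ _) (pullback.fst _ _) (Φ he hh hm hd) := by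
  refine IsPullback.of_right (h₁₂ := pullback.snd (str (n + 1) K) (str n K)) (h₂₂ := str (n + 1) K)
    (v₁₃ := str n K) ?_ (H'_fst he hh hm hd) (IsPullback.of_hasPullback _ _).flip
  rw [H'_snd, Φ_str]
  exact (IsPullback.of_hasPullback _ _).flip

theorem isFinite_H' : IsFinite (H' he hh hm hd) := by
  have := finite_pm he (fH_mem e hh) (iSup_fH e hh hm hd)
  exact MorphismProperty.of_isPullback (isPullback_H' he hh hm hd).flip ‹_›

variable (i : Fin (n + 1))

variable (h) in
/-- the dehomogenized polynomial -/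
noncomputable def hC : Polynomial (A n K i) := (finSuccEquiv K (n + 1) h).map (ev (kA (X i)) (rt i))

include hm in
theorem hC_monic : (hC h i).Monic := hm.map _

instance isDomain_A : IsDomain (A n K i) := (ρ_injective n K i).isDomain

include hm hd in
theorem hC_natDegree : (hC h i).natDegree = e := by
  rw [hC, hm.natDegree_map, hd]

theorem ev_gU_one (f : MvPolynomial (Fin (n + 1 + 1)) K) : ev (kC n K i) (gU n K 1 i) f = hC f i := by
  rw [ev_eq]
  simp only [gU, Fin.cons_zero, Fin.cons_succ, pow_one, hC, Polynomial.map]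
  congr 1
  rw [kC, ← comp_ev]

theorem cU_H' : cU n K 1 i ≫ H' he hh hm hd = Spec.map (CommRingCat.ofHom (sub (hC h i))) ≫ cU n K e i := by
  have hu : IsUnit (ev (kC n K i) (gU n K 1 i) (fH e h i.succ)) := by
    simp only [fH, Fin.cons_succ, map_pow, ev_X, gU_succ, one_pow, isUnit_one]
  apply Limits.pullback.hom_ext
  · rw [Category.assoc, H'_fst, cU, ← Category.assoc, qt_fst, Φ, ptX_pm _ _ _ _ _ _ _ i.succ hu, cU, map_qt, qt_fst]
    refine ptX_congr ?_ ?_ _ _ _
    · ext a; simp [kC, sub_C]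
    · funext l
      refine Fin.cases ?_ (fun j => ?_) l
      · simp only [fH, gU, Fin.cons_zero, sub_X]
        exact ev_gU_one i h
      · simp only [fH, Fin.cons_succ, map_pow, ev_X, gU, pow_one, sub_C]
  · rw [Category.assoc, H'_snd, cU, cU, map_qt, qt_snd, qt_snd]
    refine ptX_congr ?_ ?_ _ _ _
    · ext a; simp [kC, sub_C]
    · funext l
      simp [yC, sub_C]

theorem ker_le : (ζ n K e).ker ≤ (ι n K 1 ≫ H' he hh hm hd).ker := by
  rw [Scheme.Hom.ker_comp]
  have h1 : (ι n K 1).ker = (cU n K 1 0).ker := by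
    rw [ker_U]
    exact Scheme.IdealSheafData.ker_subschemeι _
  rw [h1, Scheme.IdealSheafData.map_ker, cU_H', ← ker_U n K e 0]
  exact Scheme.Hom.le_ker_comp _ _

/-- the morphism `H` -/
noncomputable def H : PJ n K 1 ⟶ PJ n K e := lft (ζ n K e).ker (ι n K 1 ≫ H' he hh hm hd) (ker_le he hh hm hd)

@[reassoc]
theorem H_ι : H he hh hm hd ≫ ι n K e = ι n K 1 ≫ H' he hh hm hd := lft_ι _ _ _

theorem H_q : H he hh hm hd ≫ q n K e = q n K 1 := by
  rw [q, H_ι_assoc, H'_snd, q]

theorem jU_H : jU n K 1 i ≫ H he hh hm hd = Spec.map (CommRingCat.ofHom (sub (hC h i))) ≫ jU n K e i := by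
  rw [← cancel_mono (ι n K e), Category.assoc, H_ι, jU_ι_assoc, Category.assoc, jU_ι, cU_H']

theorem isFinite_H : IsFinite (H he hh hm hd) := by
  have h1 := isFinite_H' he hh hm hd
  have h2 : IsFinite (H he hh hm hd ≫ ι n K e) := by
    rw [H_ι]
    infer_instance
  exact IsFinite.of_comp _ (ι n K e)

theorem surjective_H : Function.Surjective (H he hh hm hd) := by
  have h1 := isFinite_H he hh hm hd
  have h2 := isIntegral_PJ n K e
  have h3 : Set.range (jU n K e 0) ⊆ Set.range (H he hh hm hd) := by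
    rintro _ ⟨t, rfl⟩
    obtain ⟨s, rfl⟩ := surjective_sub (hC h 0) (hC_monic hm 0) (by rw [hC_natDegree hm hd]; exact he) t
    refine ⟨jU n K 1 0 s, ?_⟩
    rw [← Scheme.Hom.comp_apply, jU_H]
    rfl
  have h4 : Dense (Set.range (jU n K e 0)) :=
    (jU n K e 0).isOpenEmbedding.isOpen_range.dense ⟨jU n K e 0 (genericPoint _), ⟨_, rfl⟩⟩
  have h5 : IsClosed (Set.range (H he hh hm hd)) := (H he hh hm hd).isClosedMap.isClosed_range
  have h6 := (h4.mono h3).closure_eq
  rw [h5.closure_eq] at h6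
  exact Set.range_eq_univ.mp h6

end K138.Hmap
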