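import Groth.Agent.Resolve.K138.Geo

/-!
# `H : P_1 → P_e` and the sections
-/

set_option autoImplicit false

universe u

open CategoryTheory AlgebraicGeometry HomogeneousLocalization MvPolynomial
open CategoryTheory.Limits (pullback)

namespace K138.Loc

open Groth.Agent.VarietyB.ProjHom Groth.Agent.VarietyB.ProjGlue CohB1 K138.Pt K138.PolyMap K138.Prod K138.Clos
  K138.Chart K138.Cover K138.Alg K138.Hmap K138.Sect K138.Geo

/-- Étaleness over an open can be checked near every point. -/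
theorem etale_restrict {X Y : Scheme.{u}} (f : X ⟶ Y) (U : Y.Opens)
    (h : ∀ x : X, f x ∈ U → ∃ (W : Scheme.{u}) (j : W ⟶ X), IsOpenImmersion j ∧ x ∈ Set.range j ∧ Etale (j ≫ f)) :
    Etale (f ∣_ U) := by
  have h1 : Etale ((f ⁻¹ᵁ U).ι ≫ f) := by
    refine of_forall_exists @Etale _ fun w => ?_
    obtain ⟨W, j, hj, ⟨v, hv⟩, he⟩ := h ((f ⁻¹ᵁ U).ι w) w.2
    refine ⟨pullback (f ⁻¹ᵁ U).ι j, pullback.fst _ _, inferInstance, ?_, ?_⟩
    · rw [Scheme.Pullback.range_fst]
      exact ⟨v, hv⟩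
    · rw [← Category.assoc, pullback.condition, Category.assoc]
      infer_instance
  have h2 : Etale ((f ∣_ U) ≫ U.ι) := by rw [morphismRestrict_ι]; exact h1
  exact Etale.of_comp _ U.ι

variable {n : ℕ} {K : Type u} [Field K] {e : ℕ}

/-- the charts, precise form -/
theorem exists_chart' (i : Fin (n + 1)) (p : PJ n K e) (hi : q n K e p ∈ Proj.basicOpen (polyGrading n K) (X i)) :
    p ∈ Set.range (jU n K e i) ∨ (p ∈ Set.range (jZ n K e i) ∧
      b n K e p ∉ Proj.basicOpen (polyGrading (n + 1) K) (X i.succ)) := by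
  by_cases h : b n K e p ∈ Proj.basicOpen (polyGrading (n + 1) K) (X i.succ)
  · exact Or.inl (mem_range_jU n K e i p h hi)
  · refine Or.inr ⟨?_, h⟩
    obtain ⟨a, ha⟩ := TopologicalSpace.Opens.mem_iSup.mp
      ((iSup_X (n + 1) K).ge (TopologicalSpace.Opens.mem_top (b n K e p)))
    revert ha
    refine Fin.cases (fun ha => ?_) (fun j ha => ?_) a
    · exact mem_range_jZ n K e i p ha hi
    · exact absurd (mem_of_mem n K e i j p ha hi) h

/-- points of the affine line on the graph of `c` -/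
theorem mem_range_eval {A : Type u} [CommRing A] (c : A) (t : Spec (CommRingCat.of (Polynomial A)))
    (h : Polynomial.X - Polynomial.C c ∈ t.asIdeal) :
    t ∈ Set.range (Spec.map (CommRingCat.ofHom (Polynomial.evalRingHom c))) := by
  have h1 : Function.Surjective (Polynomial.evalRingHom c) := fun a => ⟨Polynomial.C a, by simp⟩
  have h2 := range_comap_of_surjective A (Polynomial.evalRingHom c) h1
  have h3 : t ∈ PrimeSpectrum.zeroLocus (RingHom.ker (Polynomial.evalRingHom c) : Set (Polynomial A)) := by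
    intro p hp
    have h4 : p.eval c = 0 := hp
    have h5 : Polynomial.X - Polynomial.C c ∣ p := Polynomial.dvd_iff_isRoot.mpr h4
    exact t.asIdeal.mem_of_dvd h5 h
  rw [← h2] at h3
  exact h3

variable (he : 0 < e)

/-- the value of a section, `u`-chart -/
theorem mem_range_sR {r : MvPolynomial (Fin (n + 1)) K} (hr : r ∈ polyGrading n K e) (i : Fin (n + 1))
    (t : Spec (CommRingCat.of (Polynomial (A n K i)))) (h : Polynomial.X - Polynomial.C (rC r i) ∈ t.asIdeal) :
    jU n K e i t ∈ Set.range (sR he hr) := by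
  obtain ⟨v, rfl⟩ := mem_range_eval _ t h
  refine ⟨Proj.awayι (polyGrading n K) (X i) (X_mem i) Nat.one_pos v, ?_⟩
  rw [← Scheme.Hom.comp_apply, awayι_sR]
  rfl

theorem mem_range_sI (i : Fin (n + 1))
    (t : Spec (CommRingCat.of (Polynomial (A n K i)))) (h : Polynomial.X ∈ t.asIdeal) :
    jZ n K e i t ∈ Set.range (sI n K e) := by
  obtain ⟨v, rfl⟩ := mem_range_eval (0 : A n K i) t (by simpa using h)
  refine ⟨Proj.awayι (polyGrading n K) (X i) (X_mem i) Nat.one_pos v, ?_⟩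
  rw [← Scheme.Hom.comp_apply, awayι_sI]
  rfl

theorem mem_of_notMem (i : Fin (n + 1)) (t : Spec (CommRingCat.of (Polynomial (A n K i))))
    (h : b n K e (jZ n K e i t) ∉ Proj.basicOpen (polyGrading (n + 1) K) (X i.succ)) :
    Polynomial.X ∈ t.asIdeal := by
  rw [← Scheme.Hom.comp_apply, jZ_b, ptX_preimage _ _ _ _ (X_mem _) Nat.one_pos, ev_X, not_not] at h
  simpa [gZ, rt_self] using h

theorem mem_range_sI' (i : Fin (n + 1)) (p : PJ n K e) (hi : q n K e p ∈ Proj.basicOpen (polyGrading n K) (X i))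
    (h : b n K e p ∉ Proj.basicOpen (polyGrading (n + 1) K) (X i.succ)) : p ∈ Set.range (sI n K e) := by
  rcases exists_chart' i p hi with ⟨t, rfl⟩ | ⟨⟨t, rfl⟩, -⟩
  · exact absurd (b_jU_mem n K e i t) h
  · exact mem_range_sI i t (mem_of_notMem i t h)

variable {h : MvPolynomial (Fin (n + 1 + 1)) K}
  (hh : h ∈ polyGrading (n + 1) K e) (hm : (finSuccEquiv K (n + 1) h).Monic)
  (hd : (finSuccEquiv K (n + 1) h).natDegree = e)

theorem H_b : H he hh hm hd ≫ b n K e = b n K 1 ≫ Φ he hh hm hd := by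
  rw [b, b, H_ι_assoc, H'_fst, Category.assoc]

/-- off the section at infinity we are in the `u`-chart -/
theorem exists_jU (x : PJ n K 1) (hx : H he hh hm hd x ∉ Set.range (sI n K e)) :
    ∃ (i : Fin (n + 1)) (t : _), jU n K 1 i t = x := by
  obtain ⟨i, hi, -⟩ := exists_chart n K 1 x
  refine ⟨i, ?_⟩
  rcases exists_chart' i x hi with ⟨t, rfl⟩ | ⟨-, h2⟩
  · exact ⟨t, rfl⟩
  · exfalso
    apply hx
    apply mem_range_sI' i
    · rw [← Scheme.Hom.comp_apply, H_q]; exact hi
    · intro h3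
      apply h2
      rw [← Scheme.Hom.comp_apply, H_b] at h3
      have h4 : b n K 1 x ∈ Φ he hh hm hd ⁻¹ᵁ Proj.basicOpen (polyGrading (n + 1) K) (X i.succ) := h3
      rw [Φ, pm_preimage] at h4
      simp only [fH, Fin.cons_succ] at h4
      rwa [Proj.basicOpen_pow _ _ _ he] at h4

theorem hC_sub (r : MvPolynomial (Fin (n + 1)) K) (i : Fin (n + 1)) :
    (finSuccEquiv K (n + 1) h - Polynomial.C r).map (ev (kA (X i)) (rt i)) =
      hC h i - Polynomial.C (rC r i) := by
  rw [Polynomial.map_sub, Polynomial.map_C]; rfl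

theorem sub_mem_of_notMem {r : MvPolynomial (Fin (n + 1)) K} (hr : r ∈ polyGrading n K e) (i : Fin (n + 1))
    (t : Spec (CommRingCat.of (Polynomial (A n K i)))) (ht : hC h i - Polynomial.C (rC r i) ∈ t.asIdeal) :
    H he hh hm hd (jU n K 1 i t) ∈ Set.range (sR he hr) := by
  rw [← Scheme.Hom.comp_apply, jU_H, Scheme.Hom.comp_apply]
  refine mem_range_sR he hr i _ ?_
  have h1 : ∀ p : Polynomial (A n K i), p ∈ (Spec.map (CommRingCat.ofHom (sub (hC h i))) t).asIdeal ↔
    sub (hC h i) p ∈ t.asIdeal := fun p => Iff.rfl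
  rw [h1, map_sub, sub_X, sub_C]
  exact ht

/-- `H` is étale off the sections. -/
theorem exists_etale_H (R : Finset (MvPolynomial (Fin (n + 1)) K)) (hR : ∀ r ∈ R, r ∈ polyGrading n K e) (m : ℕ)
    (hdv : Polynomial.derivative (finSuccEquiv K (n + 1) h) ∣
      (∏ r ∈ R, (finSuccEquiv K (n + 1) h - Polynomial.C r)) ^ m)
    (x : PJ n K 1) (hx : H he hh hm hd x ∉ Set.range (sI n K e))
    (hx' : ∀ r, ∀ hr : r ∈ R, H he hh hm hd x ∉ Set.range (sR he (hR r hr))) :
    ∃ (W : Scheme.{u}) (j : W ⟶ PJ n K 1), IsOpenImmersion j ∧ x ∈ Set.range j ∧ Etale (j ≫ H he hh hm hd) := by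
  obtain ⟨i, t, rfl⟩ := exists_jU he hh hm hd x hx
  have h1 : ∀ r ∈ R, hC h i - Polynomial.C (rC r i) ∉ t.asIdeal := fun r hr hmem =>
    hx' r hr (sub_mem_of_notMem he hh hm hd (hR r hr) i t hmem)
  have h2 : Polynomial.derivative (hC h i) ∉ t.asIdeal := by
    intro h3
    have h4 := Polynomial.map_dvd (ev (kA (X i)) (rt (n := n) (K := K) i)) hdv
    rw [← Polynomial.derivative_map, Polynomial.map_pow, Polynomial.map_prod] at h4
    have h5 : (∏ r ∈ R, Polynomial.map (ev (kA (X i)) (rt (n := n) (K := K) i))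
        (finSuccEquiv K (n + 1) h - Polynomial.C r)) ^ m ∈ t.asIdeal := t.asIdeal.mem_of_dvd h4 h3
    have h6 := t.2.mem_of_pow_mem _ h5
    rw [t.2.prod_mem_iff] at h6
    obtain ⟨r, hr, h7⟩ := h6
    rw [hC_sub] at h7
    exact h1 r hr h7
  obtain ⟨W, j, hj, ⟨w, hw⟩, hj2⟩ := exists_etale (hC h i) (hC_monic hm i)
    (by rw [hC_natDegree hm hd]; exact he) t h2
  refine ⟨W, j ≫ jU n K 1 i, inferInstance, ⟨w, by rw [← hw]; rfl⟩, ?_⟩
  rw [Category.assoc, jU_H, ← Category.assoc]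
  infer_instance

/-- The divisor of `F` goes to the sections. -/
theorem mem_of_div (R : Finset (MvPolynomial (Fin (n + 1)) K)) (hR : ∀ r ∈ R, r ∈ polyGrading n K e) (m : ℕ)
    {d : ℕ} {F : MvPolynomial (Fin (n + 1 + 1)) K} (hF : F ∈ polyGrading (n + 1) K d)
    (hFm : (finSuccEquiv K (n + 1) F).Monic) (hFd : (finSuccEquiv K (n + 1) F).natDegree = d)
    (hdv : finSuccEquiv K (n + 1) F ∣ (∏ r ∈ R, (finSuccEquiv K (n + 1) h - Polynomial.C r)) ^ m)
    (x : PJ n K 1) (hx : b n K 1 x ∉ Proj.basicOpen (polyGrading (n + 1) K) F) :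
    ∃ r, ∃ hr : r ∈ R, H he hh hm hd x ∈ Set.range (sR he (hR r hr)) := by
  have hd0 : 0 < d := by
    rw [Nat.pos_iff_ne_zero]
    rintro rfl
    apply hx
    have h1 : finSuccEquiv K (n + 1) F = 1 := hFm.natDegree_eq_zero.mp hFd
    have h2 : F = 1 := by
      apply (finSuccEquiv K (n + 1)).injective
      rw [h1, map_one]
    rw [h2, Proj.basicOpen_one]
    trivial
  obtain ⟨i, hi, -⟩ := exists_chart n K 1 x
  rcases exists_chart' i x hi with ⟨t, rfl⟩ | ⟨⟨t, rfl⟩, h2⟩
  · rw [← Scheme.Hom.comp_apply, jU_b, ptX_preimage _ _ _ _ hF hd0, not_not, ev_gU_one] at hx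
    have h4 := Polynomial.map_dvd (ev (kA (X i)) (rt (n := n) (K := K) i)) hdv
    rw [Polynomial.map_pow, Polynomial.map_prod] at h4
    have h5 : (∏ r ∈ R, Polynomial.map (ev (kA (X i)) (rt (n := n) (K := K) i))
        (finSuccEquiv K (n + 1) h - Polynomial.C r)) ^ m ∈ t.asIdeal := t.asIdeal.mem_of_dvd h4 hx
    have h6 := t.2.mem_of_pow_mem _ h5
    rw [t.2.prod_mem_iff] at h6
    obtain ⟨r, hr, h7⟩ := h6
    rw [hC_sub] at h7
    exact ⟨r, hr, sub_mem_of_notMem he hh hm hd (hR r hr) i t h7⟩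
  · exfalso
    have h3 := mem_of_notMem i t h2
    rw [← Scheme.Hom.comp_apply, jZ_b, ptX_preimage _ _ _ _ hF hd0, not_not] at hx
    have h4 := sub_mem_span F
    rw [ev_monic d hF hFm hFd] at h4
    have h5 : Ideal.span (Set.range fun l : Fin (n + 1) => (X l.succ : MvPolynomial (Fin (n + 1 + 1)) K)) ≤
        t.asIdeal.comap (ev (kC n K i) (gZ n K 1 i)) := by
      rw [Ideal.span_le]
      rintro _ ⟨l, rfl⟩
      change ev (kC n K i) (gZ n K 1 i) (X l.succ) ∈ t.asIdeal
      rw [ev_X]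
      simp only [gZ, Fin.cons_succ]
      exact t.asIdeal.mul_mem_left _ h3
    have h6 : ev (kC n K i) (gZ n K 1 i) (F - X 0 ^ d) ∈ t.asIdeal := h5 h4
    rw [map_sub, map_pow, ev_X, gZ_zero, one_pow] at h6
    have h7 := t.asIdeal.sub_mem hx h6
    rw [sub_sub_cancel] at h7
    exact t.2.ne_top ((Ideal.eq_top_iff_one _).mpr h7)

/-- the sections are distinct -/
theorem sR_injective {r r' : MvPolynomial (Fin (n + 1)) K} (hr : r ∈ polyGrading n K e) (hr' : r' ∈ polyGrading n K e)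
    (h : sR he hr = sR he hr') : r = r' := by
  have h1 := awayι_sR he hr 0
  rw [h, awayι_sR he hr' 0, cancel_mono] at h1
  have h2 : Polynomial.evalRingHom (rC r' (0 : Fin (n + 1))) = Polynomial.evalRingHom (rC r 0) := by
    exact congrArg CommRingCat.Hom.hom (Spec.map_injective h1)
  have h3 : rC r' (0 : Fin (n + 1)) = rC r 0 := by
    have := congr($h2 Polynomial.X)
    simpa using this
  have h4 : ∀ {s : MvPolynomial (Fin (n + 1)) K}, s ∈ polyGrading n K e →
      ρ n K 0 (rC s 0) = (xF n K 0)⁻¹ ^ e * algebraMap _ (F n K) s := by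
    intro s hs
    rw [rC, ← RingHom.comp_apply, comp_ev, ρ_kA]
    have h5 : (fun l => ρ n K 0 (rt 0 l)) = fun l => (xF n K 0)⁻¹ * xF n K l := by
      funext l
      rw [inv_mul_eq_div, eq_div_iff (xF_ne n K 0)]
      exact ρ_rt n K 0 l
    rw [h5]
    have h6 := Groth.Agent.VarietyB.ProjGlue.eval₂Hom_smul_of_isHomogeneous (kF n K) (xF n K) (xF n K 0)⁻¹
      (φ := s) (n := e) hs
    refine h6.trans ?_
    congr 1
    exact congr($(ev_kF n K) s)
  have h5 := congrArg (ρ n K 0) h3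
  rw [h4 hr, h4 hr'] at h5
  have h6 := mul_left_cancel₀ (pow_ne_zero _ (inv_ne_zero (xF_ne n K 0))) h5
  exact (IsFractionRing.injective (MvPolynomial (Fin (n + 1)) K) (F n K) h6).symm

theorem sR_ne_sI {r : MvPolynomial (Fin (n + 1)) K} (hr : r ∈ polyGrading n K e) : sR he hr ≠ sI n K e := by
  intro h
  let t : Spec (CommRingCat.of (A n K 0)) := genericPoint _
  have h1 := congr($(awayι_sR he hr 0) t)
  have h2 := congr($(awayι_sI (n := n) (K := K) (e := e) 0) t)
  rw [h, h2] at h1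
  have h3 := b_jU_mem n K e 0 (Spec.map (CommRingCat.ofHom (Polynomial.evalRingHom (rC r 0))) t)
  rw [← Scheme.Hom.comp_apply (Spec.map _) (jU n K e 0), ← h1, Scheme.Hom.comp_apply, ← Scheme.Hom.comp_apply _ (b n K e),
    jZ_b, ptX_preimage _ _ _ _ (X_mem _) Nat.one_pos, ev_X] at h3
  apply h3
  change Polynomial.evalRingHom 0 (gZ n K e 0 (Fin.succ 0)) ∈ t.asIdeal
  simp [gZ]

end K138.Loc
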