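import Groth.Agent.Resolve.K138.Pt
import Groth.Agent.Ega3B.ProjProper
import Mathlib.AlgebraicGeometry.Morphisms.Finite

/-!
# The morphism of projective spaces given by homogeneous polynomials of the same degree
-/

set_option autoImplicit false

universe u

open CategoryTheory AlgebraicGeometry HomogeneousLocalization MvPolynomial

namespace K138.PolyMap

open Groth.Agent.VarietyB.ProjHom Groth.Agent.VarietyB.ProjGlue CohB1 K138.Pt

variable {K : Type u} [CommRing K] {B : Type u} [CommRing B] {M N : ℕ}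

theorem X_mem (i : Fin (N + 1)) : (X i : MvPolynomial (Fin (N + 1)) K) ∈ polyGrading N K 1 :=
  MvPolynomial.isHomogeneous_X K i

theorem isUnit_ev_X {k : K →+* B} {g : Fin (N + 1) → B} {i : Fin (N + 1)} (h : IsUnit (g i)) :
    IsUnit (ev k g (X i)) := by simpa using h

/-- the point with homogeneous coordinates `g`, where `g i` is a unit -/
noncomputable def ptX (k : K →+* B) (g : Fin (N + 1) → B) (i : Fin (N + 1)) (h : IsUnit (g i)) :
    Spec (CommRingCat.of B) ⟶ Proj (polyGrading N K) :=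
  pt k g (X_mem i) Nat.one_pos (isUnit_ev_X h)

theorem ptX_indep (k : K →+* B) (g : Fin (N + 1) → B) (i j : Fin (N + 1)) (h : IsUnit (g i)) (h' : IsUnit (g j)) :
    ptX k g i h = ptX k g j h' := pt_indep _ _ _ _ _ _ _ _

theorem ptX_congr {k k' : K →+* B} {g g' : Fin (N + 1) → B} (hk : k = k') (hg : g = g')
    (i : Fin (N + 1)) (h : IsUnit (g i)) (h' : IsUnit (g' i)) : ptX k g i h = ptX k' g' i h' := by
  subst hk hg; rfl

theorem map_ptX {D : Type u} [CommRing D] (φ : B →+* D) (k : K →+* B) (g : Fin (N + 1) → B)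
    (i : Fin (N + 1)) (h : IsUnit (g i)) :
    Spec.map (CommRingCat.ofHom φ) ≫ ptX k g i h = ptX (φ.comp k) (fun i => φ (g i)) i (h.map φ) := by
  rw [ptX, map_pt]; rfl

theorem ptX_smul (k : K →+* B) (g g' : Fin (N + 1) → B) (c : B) (hc : IsUnit c)
    (hg : ∀ i, g' i = c * g i) (i : Fin (N + 1)) (h : IsUnit (g i)) (h' : IsUnit (g' i)) :
    ptX k g' i h' = ptX k g i h := by
  obtain rfl : g' = fun i => c * g i := funext hg
  exact pt_smul _ _ _ hc _ _ _ _

theorem ptX_eq {k k' : K →+* B} {g g' : Fin (N + 1) → B} (hk : k' = k) (c : B) (hc : IsUnit c)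
    (hg : ∀ i, g' i = c * g i) (i : Fin (N + 1)) (h : IsUnit (g i)) (h' : IsUnit (g' i)) :
    ptX k' g' i h' = ptX k g i h := by
  subst hk
  exact ptX_smul _ _ _ c hc hg _ _ _

theorem ptX_toSpec (k : K →+* B) (g : Fin (N + 1) → B) (i : Fin (N + 1)) (h : IsUnit (g i)) :
    ptX k g i h ≫ str N K = Spec.map (CommRingCat.ofHom k) := pt_toSpec _ _ _ _ _

theorem ptX_preimage (k : K →+* B) (g : Fin (N + 1) → B) (i : Fin (N + 1)) (h : IsUnit (g i))
    {s : MvPolynomial (Fin (N + 1)) K} {e : ℕ} (hs : s ∈ polyGrading N K e) (he : 0 < e)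
    (p : Spec (CommRingCat.of B)) :
    ptX k g i h p ∈ Proj.basicOpen (polyGrading N K) s ↔ ev k g s ∉ p.asIdeal :=
  pt_preimage _ _ _ _ _ hs he p

variable {e : ℕ} (he : 0 < e) {f : Fin (N + 1) → MvPolynomial (Fin (M + 1)) K}
  (hf : ∀ i, f i ∈ polyGrading M K e)

theorem rat_self {g : MvPolynomial (Fin (M + 1)) K} (hg : g ∈ polyGrading M K e) : rat hg g hg = 1 := by
  apply HomogeneousLocalization.val_injective
  rw [rat, Away.val_mk, HomogeneousLocalization.val_one]
  simp

/-- the local morphisms -/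
noncomputable def loc (i : Fin (N + 1)) :
    Spec (CommRingCat.of (Away (polyGrading M K) (f i))) ⟶ Proj (polyGrading N K) :=
  ptX (kA (f i)) (fun l => rat (hf i) (f l) (hf l)) i (by rw [rat_self]; exact isUnit_one)

theorem awayMap_kA {g h x : MvPolynomial (Fin (M + 1)) K} {d : ℕ} (hh : h ∈ polyGrading M K d)
    (hx : x = g * h) : (awayMap (polyGrading M K) hh hx).comp (kA g) = kA x := by
  ext a
  simp only [RingHom.comp_apply, kA]
  rw [HomogeneousLocalization.awayMap_fromZeroRingHom]

theorem awayMap_rat {g h x : MvPolynomial (Fin (M + 1)) K} {d d' : ℕ} (hg : g ∈ polyGrading M K d)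
    (hh : h ∈ polyGrading M K d') (hx : x = g * h) (s : MvPolynomial (Fin (M + 1)) K) (hs : s ∈ polyGrading M K d) :
    awayMap (polyGrading M K) hh hx (rat hg s hs) =
      rat (hx ▸ SetLike.mul_mem_graded hg hh : x ∈ polyGrading M K (d + d')) (s * h)
        (SetLike.mul_mem_graded hs hh) := by
  rw [rat, HomogeneousLocalization.awayMap_mk]
  apply HomogeneousLocalization.val_injective
  rw [rat, Away.val_mk, Away.val_mk]
  congr 1
  rw [pow_one]

theorem rat_mul {x : MvPolynomial (Fin (M + 1)) K} {d : ℕ} (hx : x ∈ polyGrading M K d)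
    {r s t : MvPolynomial (Fin (M + 1)) K} (hr : r ∈ polyGrading M K d) (hs : s ∈ polyGrading M K d)
    (ht : t ∈ polyGrading M K d) (h : r * s = t * x) : rat hx r hr * rat hx s hs = rat hx t ht := by
  apply HomogeneousLocalization.val_injective
  rw [HomogeneousLocalization.val_mul, rat, rat, rat, Away.val_mk, Away.val_mk, Away.val_mk,
    Localization.mk_mul, Localization.mk_eq_mk_iff, Localization.r_iff_exists]
  refine ⟨1, ?_⟩
  simp only [OneMemClass.coe_one, one_mul, pow_one, Submonoid.coe_mul]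
  rw [h]; ring

theorem rat_congr {x : MvPolynomial (Fin (M + 1)) K} {d : ℕ} {hx hx' : x ∈ polyGrading M K d}
    {r s : MvPolynomial (Fin (M + 1)) K} {hr : r ∈ polyGrading M K d} {hs : s ∈ polyGrading M K d} (h : r = s) :
    rat hx r hr = rat hx' s hs := by subst h; rfl

theorem compat (i j : Fin (N + 1)) (x : MvPolynomial (Fin (M + 1)) K) (hx : x = f i * f j)
    (hx' : x = f j * f i) :
    Spec.map (CommRingCat.ofHom (awayMap (polyGrading M K) (hf j) hx)) ≫ loc hf i =
      Spec.map (CommRingCat.ofHom (awayMap (polyGrading M K) (hf i) hx')) ≫ loc hf j := by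
  have hxm : x ∈ polyGrading M K (e + e) := by rw [hx]; exact SetLike.mul_mem_graded (hf i) (hf j)
  have hm : ∀ a b, f a * f b ∈ polyGrading M K (e + e) := fun a b => SetLike.mul_mem_graded (hf a) (hf b)
  have hu : IsUnit (rat hxm (f j * f j) (hm j j)) := by
    refine IsUnit.of_mul_eq_one (rat hxm (f i * f i) (hm i i)) ?_
    rw [rat_mul hxm _ _ hxm (by rw [hx]; ring), rat_self]
  rw [loc, loc, map_ptX, map_ptX]
  have h2 : IsUnit (awayMap (polyGrading M K) (hf j) hx (rat (hf i) (f j) (hf j))) := by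
    rw [awayMap_rat]; exact hu
  rw [ptX_indep _ _ i j _ h2]
  refine (ptX_congr ?_ rfl j h2 h2).trans (ptX_smul _ _ _ (rat hxm (f j * f j) (hm j j)) hu ?_ _ _ _)
  · rw [awayMap_kA, awayMap_kA]
  · intro l
    rw [awayMap_rat, awayMap_rat]
    refine Eq.symm ((rat_mul hxm (hm j j) (hm l i) (hm l j) (by rw [hx]; ring)))

variable (hcov : ⨆ i, Proj.basicOpen (polyGrading M K) (f i) = ⊤)

include he in
theorem compat_opens (i j : Fin (N + 1)) :
    (Proj (polyGrading M K)).homOfLE (inf_le_left : Proj.basicOpen (polyGrading M K) (f i) ⊓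
        Proj.basicOpen (polyGrading M K) (f j) ≤ _) ≫ (Proj.basicOpenIsoSpec (polyGrading M K) (f i) (hf i) he).hom ≫ loc hf i =
      (Proj (polyGrading M K)).homOfLE (inf_le_right : Proj.basicOpen (polyGrading M K) (f i) ⊓
        Proj.basicOpen (polyGrading M K) (f j) ≤ _) ≫ (Proj.basicOpenIsoSpec (polyGrading M K) (f j) (hf j) he).hom ≫ loc hf j := by
  have h0 : Proj.basicOpen (polyGrading M K) (f i * f j) = Proj.basicOpen (polyGrading M K) (f i) ⊓
        Proj.basicOpen (polyGrading M K) (f j) := Proj.basicOpen_mul ..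
  rw [← cancel_epi ((Proj (polyGrading M K)).isoOfEq h0).hom]
  have h1 := Proj.basicOpenToSpec_SpecMap_awayMap (polyGrading M K) (f := f i) (hf j) (x := f i * f j) rfl
  have h2 := Proj.basicOpenToSpec_SpecMap_awayMap (polyGrading M K) (f := f j) (hf i) (x := f i * f j) (mul_comm _ _)
  simp only [Proj.basicOpenIsoSpec_hom, Scheme.isoOfEq_hom, Scheme.homOfLE_homOfLE_assoc]
  rw [← reassoc_of% h1, ← reassoc_of% h2]
  rw [compat hf i j _ rfl (mul_comm _ _)]

/-- The morphism of projective spaces. -/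
noncomputable def pm : Proj (polyGrading M K) ⟶ Proj (polyGrading N K) :=
  (exists_glue_opens (fun i => Proj.basicOpen (polyGrading M K) (f i)) hcov _ (compat_opens he hf)).choose

theorem ι_pm (i : Fin (N + 1)) : (Proj.basicOpen (polyGrading M K) (f i)).ι ≫ pm he hf hcov =
    (Proj.basicOpenIsoSpec (polyGrading M K) (f i) (hf i) he).hom ≫ loc hf i :=
  (exists_glue_opens (fun i => Proj.basicOpen (polyGrading M K) (f i)) hcov _
    (compat_opens he hf)).choose_spec i

theorem awayι_pm (i : Fin (N + 1)) : Proj.awayι (polyGrading M K) (f i) (hf i) he ≫ pm he hf hcov = loc hf i := by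
  rw [← Proj.basicOpenIsoSpec_inv_ι, Category.assoc, ι_pm, Iso.inv_hom_id_assoc]

/-- The value at a point. -/
theorem pt_pm (k : K →+* B) (g : Fin (M + 1) → B) {q : MvPolynomial (Fin (M + 1)) K} {d : ℕ}
    (hqd : q ∈ polyGrading M K d) (hd : 0 < d) (hq : IsUnit (ev k g q))
    (i : Fin (N + 1)) (hi : IsUnit (ev k g (f i))) :
    pt k g hqd hd hq ≫ pm he hf hcov = ptX k (fun l => ev k g (f l)) i hi := by
  rw [pt_indep k g hqd hd hq (hf i) he hi, pt, Category.assoc, awayι_pm, loc, map_ptX]
  refine (ptX_eq (awayLift_kA k g (hf i) hi).symm (ev k g (f i)) hi ?_ _ _ _).symm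
  intro l
  rw [mul_comm, awayLift_rat]

theorem ptX_pm (k : K →+* B) (g : Fin (M + 1) → B) (j : Fin (M + 1)) (hj : IsUnit (g j))
    (i : Fin (N + 1)) (hi : IsUnit (ev k g (f i))) :
    ptX k g j hj ≫ pm he hf hcov = ptX k (fun l => ev k g (f l)) i hi :=
  pt_pm he hf hcov k g _ _ _ i hi

theorem pm_toSpec : pm he hf hcov ≫ str N K = str M K := by
  apply hom_ext_opens (fun i => Proj.basicOpen (polyGrading M K) (f i)) hcov
  intro i
  rw [← cancel_epi (Proj.basicOpenIsoSpec (polyGrading M K) (f i) (hf i) he).inv,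
    Proj.basicOpenIsoSpec_inv_ι_assoc, Proj.basicOpenIsoSpec_inv_ι_assoc, ← Category.assoc,
    awayι_pm, awayι_toSpec, loc, ptX_toSpec]

theorem pm_preimage (l : Fin (N + 1)) : pm he hf hcov ⁻¹ᵁ Proj.basicOpen (polyGrading N K) (X l) =
    Proj.basicOpen (polyGrading M K) (f l) := by
  ext x
  obtain ⟨i, hi⟩ := TopologicalSpace.Opens.mem_iSup.mp (hcov.ge (TopologicalSpace.Opens.mem_top x))
  rw [← Proj.opensRange_awayι (polyGrading M K) (f i) (hf i) he] at hi
  obtain ⟨y, rfl⟩ := hi
  have h1 : (Proj.awayι (polyGrading M K) (f i) (hf i) he y ∈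
      pm he hf hcov ⁻¹ᵁ Proj.basicOpen (polyGrading N K) (X l)) ↔
      loc hf i y ∈ Proj.basicOpen (polyGrading N K) (X l) := by
    rw [← awayι_pm he hf hcov i]; rfl
  have h2 : (Proj.awayι (polyGrading M K) (f i) (hf i) he y ∈ Proj.basicOpen (polyGrading M K) (f l)) ↔
      Away.isLocalizationElem (𝒜 := polyGrading M K) (hf i) (hf l) ∉ y.asIdeal := by
    have := Proj.awayι_preimage_basicOpen (polyGrading M K) (hf i) he (hf l) he
    rw [TopologicalSpace.Opens.ext_iff, Set.ext_iff] at this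
    exact this y
  refine h1.trans (Iff.trans ?_ h2.symm)
  rw [loc, ptX_preimage _ _ _ _ (X_mem l) Nat.one_pos, not_iff_not]
  have h3 : Away.isLocalizationElem (𝒜 := polyGrading M K) (hf i) (hf l) = rat (hf i) (f l) (hf l) ^ e := by
    apply HomogeneousLocalization.val_injective
    rw [HomogeneousLocalization.val_pow, rat]
    change HomogeneousLocalization.val (Away.mk (polyGrading M K) (hf i) e (f l ^ e)
      (SetLike.pow_mem_graded e (hf l))) = _
    rw [Away.val_mk, Away.val_mk, Localization.mk_pow]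
    congr 1
    ext
    simp
  rw [h3]
  simp only [coe_eval₂Hom, eval₂_X]
  exact (y.2.pow_mem_iff_mem _ he).symm

theorem iSup_X (N : ℕ) (K : Type u) [CommRing K] :
    ⨆ k : Fin (N + 1), Proj.basicOpen (polyGrading N K) (X k) = ⊤ :=
  CoordData.iSup_basicOpen_X (Fin (N + 1)) K

theorem affine_pm : IsAffineHom (pm he hf hcov) := by
  refine isAffineHom_of_forall_exists_isAffineOpen _ fun x => ?_
  have h := iSup_X N K
  obtain ⟨l, hl⟩ := TopologicalSpace.Opens.mem_iSup.mp (h.ge (TopologicalSpace.Opens.mem_top x))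
  refine ⟨Proj.basicOpen (polyGrading N K) (X l), hl, Proj.isAffineOpen_basicOpen _ _ (X_mem l) Nat.one_pos, ?_⟩
  rw [pm_preimage]
  exact Proj.isAffineOpen_basicOpen _ _ (hf l) he

theorem isProper_str (N : ℕ) (K : Type u) [CommRing K] : IsProper (str N K) :=
  Groth.Agent.Ega3B.ProjProper.isProper_toSpec N K

theorem finite_pm : IsFinite (pm he hf hcov) := by
  have h1 := affine_pm he hf hcov
  have h2 : IsProper (pm he hf hcov) := by
    have := isProper_str N K
    have h3 : IsProper (pm he hf hcov ≫ str N K) := by rw [pm_toSpec]; exact isProper_str M K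
    exact IsProper.of_comp (pm he hf hcov) (str N K)
  exact IsFinite.iff_isProper_and_isAffineHom.mpr ⟨h2, h1⟩

end K138.PolyMap
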