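import Groth.Agent.Resolve.K138.PolyMap
import Mathlib.AlgebraicGeometry.Morphisms.Immersion

/-!
# Points of `P^(M) × P^(N)` with values in a ring; closed immersions into the standard opens
-/

set_option autoImplicit false

universe u

open CategoryTheory AlgebraicGeometry HomogeneousLocalization MvPolynomial
open CategoryTheory.Limits (pullback)

namespace K138.Prod

open Groth.Agent.VarietyB.ProjHom Groth.Agent.VarietyB.ProjGlue CohB1 K138.Pt K138.PolyMap

section closed

variable {K S₁ S₂ R : Type u} [CommRing K] [CommRing S₁] [CommRing S₂] [CommRing R]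

theorem SpecMap_appTop_apply {S R : Type u} [CommRing S] [CommRing R] (α : S →+* R) (s : S) :
    (Scheme.ΓSpecIso (CommRingCat.of R)).hom ((Spec.map (CommRingCat.ofHom α)).appTop
      ((Scheme.ΓSpecIso (CommRingCat.of S)).inv s)) = α s := by
  have h := Scheme.ΓSpecIso_naturality (CommRingCat.ofHom α)
  have h2 := congr(($h).hom ((Scheme.ΓSpecIso (CommRingCat.of S)).inv s))
  simp only [CommRingCat.hom_comp, RingHom.comp_apply] at h2
  refine h2.trans ?_
  simp

/-- A morphism from an affine scheme to a product of affine schemes is a closed immersion if the ring is generated by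
the images of the two rings. -/
theorem isClosedImmersion_lift (s₁ : K →+* S₁) (s₂ : K →+* S₂) (α : S₁ →+* R) (β : S₂ →+* R)
    (h : Spec.map (CommRingCat.ofHom α) ≫ Spec.map (CommRingCat.ofHom s₁) =
      Spec.map (CommRingCat.ofHom β) ≫ Spec.map (CommRingCat.ofHom s₂))
    (hgen : Subring.closure (Set.range α ∪ Set.range β) = ⊤) :
    IsClosedImmersion (pullback.lift (Spec.map (CommRingCat.ofHom α)) (Spec.map (CommRingCat.ofHom β)) h) := by
  set l := pullback.lift (Spec.map (CommRingCat.ofHom α)) (Spec.map (CommRingCat.ofHom β)) h with hl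
  apply IsClosedImmersion.of_surjective_of_isAffine
  let T : Subring R := ((Scheme.ΓSpecIso (CommRingCat.of R)).hom.hom.comp l.appTop.hom).range
  have hT : T = ⊤ := by
    rw [eq_top_iff, ← hgen, Subring.closure_le]
    rintro _ (⟨s, rfl⟩ | ⟨s, rfl⟩)
    · refine ⟨(pullback.fst (Spec.map (CommRingCat.ofHom s₁)) (Spec.map (CommRingCat.ofHom s₂))).appTop
        ((Scheme.ΓSpecIso (CommRingCat.of S₁)).inv s), ?_⟩
      have h1 : l ≫ pullback.fst _ _ = Spec.map (CommRingCat.ofHom α) := pullback.lift_fst _ _ _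
      rw [← SpecMap_appTop_apply α s, ← h1, Scheme.Hom.comp_appTop]
      rfl
    · refine ⟨(pullback.snd (Spec.map (CommRingCat.ofHom s₁)) (Spec.map (CommRingCat.ofHom s₂))).appTop
        ((Scheme.ΓSpecIso (CommRingCat.of S₂)).inv s), ?_⟩
      have h1 : l ≫ pullback.snd _ _ = Spec.map (CommRingCat.ofHom β) := pullback.lift_snd _ _ _
      rw [← SpecMap_appTop_apply β s, ← h1, Scheme.Hom.comp_appTop]
      rfl
  intro x
  have hx : (Scheme.ΓSpecIso (CommRingCat.of R)).hom x ∈ T := by rw [hT]; trivial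
  obtain ⟨y, hy⟩ := hx
  refine ⟨y, ?_⟩
  exact (Scheme.ΓSpecIso (CommRingCat.of R)).commRingCatIsoToRingEquiv.injective hy

end closed

variable {K : Type u} [CommRing K] {R : Type u} [CommRing R] {M N : ℕ}

/-- the product of two projective spaces -/
noncomputable abbrev XX (M N : ℕ) (K : Type u) [CommRing K] : Scheme.{u} := pullback (str M K) (str N K)

/-- the point `(g, y)` of the product -/
noncomputable def qt (k : K →+* R) (g : Fin (M + 1) → R) (a : Fin (M + 1)) (ha : IsUnit (g a))
    (y : Fin (N + 1) → R) (i : Fin (N + 1)) (hi : IsUnit (y i)) : Spec (CommRingCat.of R) ⟶ XX M N K :=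
  pullback.lift (ptX k g a ha) (ptX k y i hi) (by rw [ptX_toSpec, ptX_toSpec])

theorem qt_fst (k : K →+* R) (g : Fin (M + 1) → R) (a : Fin (M + 1)) (ha : IsUnit (g a))
    (y : Fin (N + 1) → R) (i : Fin (N + 1)) (hi : IsUnit (y i)) :
    qt k g a ha y i hi ≫ pullback.fst _ _ = ptX k g a ha := pullback.lift_fst _ _ _

theorem qt_snd (k : K →+* R) (g : Fin (M + 1) → R) (a : Fin (M + 1)) (ha : IsUnit (g a))
    (y : Fin (N + 1) → R) (i : Fin (N + 1)) (hi : IsUnit (y i)) :
    qt k g a ha y i hi ≫ pullback.snd _ _ = ptX k y i hi := pullback.lift_snd _ _ _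

theorem qt_eq {k k' : K →+* R} {g g' : Fin (M + 1) → R} {a a' : Fin (M + 1)} {ha : IsUnit (g a)}
    {ha' : IsUnit (g' a')} {y y' : Fin (N + 1) → R} {i i' : Fin (N + 1)} {hi : IsUnit (y i)} {hi' : IsUnit (y' i')}
    (hk : k' = k) (c : R) (hc : IsUnit c) (hg : ∀ l, g' l = c * g l)
    (d : R) (hd : IsUnit d) (hy : ∀ l, y' l = d * y l) :
    qt k' g' a' ha' y' i' hi' = qt k g a ha y i hi := by
  subst hk
  have ha2 : IsUnit (g' a) := by rw [hg]; exact hc.mul ha
  have hi2 : IsUnit (y' i) := by rw [hy]; exact hd.mul hi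
  apply Limits.pullback.hom_ext
  · rw [qt_fst, qt_fst, ptX_indep k' g' a' a ha' ha2]
    exact ptX_eq rfl c hc hg _ _ _
  · rw [qt_snd, qt_snd, ptX_indep k' y' i' i hi' hi2]
    exact ptX_eq rfl d hd hy _ _ _

theorem map_qt {D : Type u} [CommRing D] (φ : R →+* D) (k : K →+* R) (g : Fin (M + 1) → R) (a : Fin (M + 1))
    (ha : IsUnit (g a)) (y : Fin (N + 1) → R) (i : Fin (N + 1)) (hi : IsUnit (y i)) :
    Spec.map (CommRingCat.ofHom φ) ≫ qt k g a ha y i hi =
      qt (φ.comp k) (fun l => φ (g l)) a (ha.map φ) (fun l => φ (y l)) i (hi.map φ) := by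
  apply Limits.pullback.hom_ext
  · rw [Category.assoc, qt_fst, qt_fst, map_ptX]
  · rw [Category.assoc, qt_snd, qt_snd, map_ptX]

/-- the standard affine open of the product -/
noncomputable def aff (a : Fin (M + 1)) (i : Fin (N + 1)) :
    pullback (Spec.map (CommRingCat.ofHom (kA (X a : MvPolynomial (Fin (M + 1)) K))))
      (Spec.map (CommRingCat.ofHom (kA (X i : MvPolynomial (Fin (N + 1)) K)))) ⟶ XX M N K :=
  pullback.map _ _ _ _ (Proj.awayι (polyGrading M K) (X a) (X_mem a) Nat.one_pos)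
    (Proj.awayι (polyGrading N K) (X i) (X_mem i) Nat.one_pos) (𝟙 _)
    (by rw [Category.comp_id, awayι_toSpec]) (by rw [Category.comp_id, awayι_toSpec])

instance (a : Fin (M + 1)) (i : Fin (N + 1)) : IsOpenImmersion (aff (K := K) a i) := by
  unfold aff; infer_instance

theorem mem_range_aff (a : Fin (M + 1)) (i : Fin (N + 1)) (p : XX M N K)
    (h1 : pullback.fst (str M K) (str N K) p ∈ Proj.basicOpen (polyGrading M K) (X a))
    (h2 : pullback.snd (str M K) (str N K) p ∈ Proj.basicOpen (polyGrading N K) (X i)) :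
    p ∈ Set.range (aff (K := K) a i) := by
  rw [← Proj.opensRange_awayι (polyGrading M K) (X a) (X_mem a) Nat.one_pos] at h1
  rw [← Proj.opensRange_awayι (polyGrading N K) (X i) (X_mem i) Nat.one_pos] at h2
  rw [aff, Scheme.Pullback.range_map]
  exact ⟨h1, h2⟩

/-- the map to the affine open -/
noncomputable def qc (k : K →+* R) (g : Fin (M + 1) → R) (a : Fin (M + 1)) (ha : IsUnit (g a))
    (y : Fin (N + 1) → R) (i : Fin (N + 1)) (hi : IsUnit (y i)) : Spec (CommRingCat.of R) ⟶
    pullback (Spec.map (CommRingCat.ofHom (kA (X a : MvPolynomial (Fin (M + 1)) K))))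
      (Spec.map (CommRingCat.ofHom (kA (X i : MvPolynomial (Fin (N + 1)) K)))) :=
  pullback.lift (Spec.map (CommRingCat.ofHom (awayLift (polyGrading M K) (ev k g) (X a) (isUnit_ev_X ha))))
    (Spec.map (CommRingCat.ofHom (awayLift (polyGrading N K) (ev k y) (X i) (isUnit_ev_X hi))))
    (by rw [← Spec.map_comp, ← Spec.map_comp, ← CommRingCat.ofHom_comp, ← CommRingCat.ofHom_comp,
      awayLift_kA _ _ (X_mem a), awayLift_kA _ _ (X_mem i)])

theorem qc_aff (k : K →+* R) (g : Fin (M + 1) → R) (a : Fin (M + 1)) (ha : IsUnit (g a))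
    (y : Fin (N + 1) → R) (i : Fin (N + 1)) (hi : IsUnit (y i)) :
    qc k g a ha y i hi ≫ aff a i = qt k g a ha y i hi := by
  apply Limits.pullback.hom_ext
  · rw [qt_fst, Category.assoc, aff, pullback.lift_fst, qc, pullback.lift_fst_assoc]
    rfl
  · rw [qt_snd, Category.assoc, aff, pullback.lift_snd, qc, pullback.lift_snd_assoc]
    rfl

/-- generation of the ring by the coordinates -/
def Gen (k : K →+* R) (g : Fin (M + 1) → R) (y : Fin (N + 1) → R) : Prop :=
  Subring.closure (Set.range k ∪ Set.range g ∪ Set.range y) = ⊤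

theorem isClosedImmersion_qc (k : K →+* R) (g : Fin (M + 1) → R) (a : Fin (M + 1)) (ha : g a = 1)
    (y : Fin (N + 1) → R) (i : Fin (N + 1)) (hi : y i = 1) (hgen : Gen k g y) :
    IsClosedImmersion (qc k g a (ha ▸ isUnit_one) y i (hi ▸ isUnit_one)) := by
  apply isClosedImmersion_lift
  rw [eq_top_iff, ← hgen]
  apply Subring.closure_mono
  rintro x ((⟨c, rfl⟩ | ⟨l, rfl⟩) | ⟨l, rfl⟩)
  · left
    refine ⟨kA _ c, ?_⟩
    exact congr($(awayLift_kA k g (X_mem a) (isUnit_ev_X (ha ▸ isUnit_one))) c)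
  · left
    refine ⟨rat (X_mem a) (X l) (X_mem l), ?_⟩
    have := awayLift_rat k g (X_mem a) (isUnit_ev_X (ha ▸ isUnit_one)) (X l) (X_mem l)
    simpa [ha] using this
  · right
    refine ⟨rat (X_mem i) (X l) (X_mem l), ?_⟩
    have := awayLift_rat k y (X_mem i) (isUnit_ev_X (hi ▸ isUnit_one)) (X l) (X_mem l)
    simpa [hi] using this

end K138.Prod
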