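import Groth.Prelude.Def_CohB1
import Groth.Agent.VarietyB.ProjHom
import Groth.Agent.VarietyB.ProjGlue

/-!
# Points of projective space with values in a ring

`pt k g f : Spec B ⟶ P^N` for a ring homomorphism `k : K →+* B`, coordinates `g : Fin (N+1) → B` and a homogeneous
polynomial `f` of positive degree whose value at `g` is a unit.
-/

set_option autoImplicit false

universe u

open CategoryTheory AlgebraicGeometry HomogeneousLocalization MvPolynomial

namespace K138.Pt

open Groth.Agent.VarietyB.ProjHom CohB1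

variable {K : Type u} [CommRing K] {B : Type u} [CommRing B] {N : ℕ}

/-- evaluation at `g` -/
noncomputable abbrev ev (k : K →+* B) (g : Fin (N + 1) → B) : MvPolynomial (Fin (N + 1)) K →+* B :=
  MvPolynomial.eval₂Hom k g

/-- the structure morphism of projective space -/
noncomputable def str (N : ℕ) (K : Type u) [CommRing K] : Proj (polyGrading N K) ⟶ Spec (CommRingCat.of K) :=
  Proj.toSpecZero (polyGrading N K) ≫ Spec.map (CommRingCat.ofHom (algebraMap K (polyGrading N K 0)))

/-- the point with homogeneous coordinates `g` -/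
noncomputable def pt (k : K →+* B) (g : Fin (N + 1) → B) {f : MvPolynomial (Fin (N + 1)) K} {d : ℕ}
    (hfd : f ∈ polyGrading N K d) (hd : 0 < d) (hf : IsUnit (ev k g f)) :
    Spec (CommRingCat.of B) ⟶ Proj (polyGrading N K) :=
  Spec.map (CommRingCat.ofHom (awayLift (polyGrading N K) (ev k g) f hf)) ≫
    Proj.awayι (polyGrading N K) f hfd hd

/-- Independence of the chart. -/
theorem pt_indep (k : K →+* B) (g : Fin (N + 1) → B) {f f' : MvPolynomial (Fin (N + 1)) K} {d d' : ℕ}
    (hfd : f ∈ polyGrading N K d) (hd : 0 < d) (hf : IsUnit (ev k g f))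
    (hfd' : f' ∈ polyGrading N K d') (hd' : 0 < d') (hf' : IsUnit (ev k g f')) :
    pt k g hfd hd hf = pt k g hfd' hd' hf' := by
  have hx' : IsUnit (ev k g (f * f')) := by rw [map_mul]; exact hf.mul hf'
  have h1 := awayLift_awayMap (polyGrading N K) (ev k g) (t := f) (s := f') hfd hfd' rfl hx' hf
  have h2 := awayLift_awayMap (polyGrading N K) (ev k g) (t := f') (s := f) hfd' hfd (mul_comm f f') hx' hf'
  rw [pt, pt, ← h1, ← h2, CommRingCat.ofHom_comp, CommRingCat.ofHom_comp, Spec.map_comp, Spec.map_comp,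
    Category.assoc, Category.assoc, Proj.SpecMap_awayMap_awayι (polyGrading N K) hfd hd hfd' rfl,
    Proj.SpecMap_awayMap_awayι (polyGrading N K) hfd' hd' hfd (mul_comm f f')]
  rfl

theorem pt_congr {k k' : K →+* B} {g g' : Fin (N + 1) → B} (hk : k = k') (hg : g = g')
    {f : MvPolynomial (Fin (N + 1)) K} {d : ℕ}
    (hfd : f ∈ polyGrading N K d) (hd : 0 < d) (hf : IsUnit (ev k g f)) :
    pt k g hfd hd hf = pt k' g' hfd hd (by subst hk hg; exact hf) := by
  subst hk hg; rfl

theorem comp_ev {D : Type u} [CommRing D] (φ : B →+* D) (k : K →+* B) (g : Fin (N + 1) → B) :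
    φ.comp (ev k g) = ev (φ.comp k) (fun i => φ (g i)) := by
  apply MvPolynomial.ringHom_ext
  · intro r; simp
  · intro i; simp

theorem isUnit_ev {D : Type u} [CommRing D] (φ : B →+* D) (k : K →+* B) (g : Fin (N + 1) → B)
    {f : MvPolynomial (Fin (N + 1)) K} (hf : IsUnit (ev k g f)) :
    IsUnit (ev (φ.comp k) (fun i => φ (g i)) f) := by
  rw [← comp_ev, RingHom.comp_apply]; exact hf.map φ

/-- Functoriality in the ring. -/
theorem map_pt {D : Type u} [CommRing D] (φ : B →+* D) (k : K →+* B) (g : Fin (N + 1) → B)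
    {f : MvPolynomial (Fin (N + 1)) K} {d : ℕ}
    (hfd : f ∈ polyGrading N K d) (hd : 0 < d) (hf : IsUnit (ev k g f)) :
    Spec.map (CommRingCat.ofHom φ) ≫ pt k g hfd hd hf =
      pt (φ.comp k) (fun i => φ (g i)) hfd hd (isUnit_ev φ k g hf) := by
  rw [pt, pt, ← Spec.map_comp_assoc, ← CommRingCat.ofHom_comp]
  congr 3
  rw [awayLift_comp (polyGrading N K) (ev k g) hf hfd φ]
  congr 1
  exact comp_ev φ k g

/-- Scaling. -/
theorem pt_smul (k : K →+* B) (g : Fin (N + 1) → B) (c : B) (hc : IsUnit c)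
    {f : MvPolynomial (Fin (N + 1)) K} {d : ℕ}
    (hfd : f ∈ polyGrading N K d) (hd : 0 < d) (hf : IsUnit (ev k g f))
    (hf' : IsUnit (ev k (fun i => c * g i) f)) :
    pt k (fun i => c * g i) hfd hd hf' = pt k g hfd hd hf := by
  obtain ⟨u, rfl⟩ := hc
  rw [pt, pt]
  congr 3
  refine awayLift_twist (polyGrading N K) _ _ _ _ hfd u ?_
  intro n a ha
  exact Groth.Agent.VarietyB.ProjGlue.eval₂Hom_smul_of_isHomogeneous k g (u : B) ha

/-- The structure homomorphism of the affine charts. -/
noncomputable def kA (f : MvPolynomial (Fin (N + 1)) K) : K →+* Away (polyGrading N K) f :=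
  (fromZeroRingHom (polyGrading N K) _).comp (algebraMap K (polyGrading N K 0))

theorem awayLift_kA (k : K →+* B) (g : Fin (N + 1) → B) {f : MvPolynomial (Fin (N + 1)) K} {d : ℕ}
    (hfd : f ∈ polyGrading N K d) (hf : IsUnit (ev k g f)) :
    (awayLift (polyGrading N K) (ev k g) f hf).comp (kA f) = k := by
  ext a
  have h1 := awayLift_mk (polyGrading N K) (ev k g) hf hfd 0 (C a)
    (by simp)
  simp only [pow_zero, mul_one] at h1
  simp only [RingHom.comp_apply]
  refine Eq.trans ?_ (h1.trans (by simp))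
  congr 1
  ext
  rw [Away.val_mk]
  change Localization.mk _ ⟨1, _⟩ = _
  congr 2

theorem pt_toSpec (k : K →+* B) (g : Fin (N + 1) → B) {f : MvPolynomial (Fin (N + 1)) K} {d : ℕ}
    (hfd : f ∈ polyGrading N K d) (hd : 0 < d) (hf : IsUnit (ev k g f)) :
    pt k g hfd hd hf ≫ str N K = Spec.map (CommRingCat.ofHom k) := by
  rw [pt, str, Category.assoc, Proj.awayι_toSpecZero_assoc]
  rw [← Spec.map_comp, ← Spec.map_comp, ← CommRingCat.ofHom_comp, ← CommRingCat.ofHom_comp]
  congr 2
  exact awayLift_kA k g hfd hf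

theorem awayι_toSpec {f : MvPolynomial (Fin (N + 1)) K} {d : ℕ}
    (hfd : f ∈ polyGrading N K d) (hd : 0 < d) :
    Proj.awayι (polyGrading N K) f hfd hd ≫ str N K = Spec.map (CommRingCat.ofHom (kA f)) := by
  rw [str, Proj.awayι_toSpecZero_assoc]
  rw [← Spec.map_comp]
  rfl

/-- The preimage of a standard open. -/
theorem pt_preimage (k : K →+* B) (g : Fin (N + 1) → B) {f : MvPolynomial (Fin (N + 1)) K} {d : ℕ}
    (hfd : f ∈ polyGrading N K d) (hd : 0 < d) (hf : IsUnit (ev k g f))
    {s : MvPolynomial (Fin (N + 1)) K} {e : ℕ} (hs : s ∈ polyGrading N K e) (he : 0 < e)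
    (p : Spec (CommRingCat.of B)) :
    pt k g hfd hd hf p ∈ Proj.basicOpen (polyGrading N K) s ↔ ev k g s ∉ p.asIdeal := by
  have h1 : pt k g hfd hd hf p ∈ Proj.basicOpen (polyGrading N K) s ↔
      Spec.map (CommRingCat.ofHom (awayLift (polyGrading N K) (ev k g) f hf)) p ∈
        Proj.awayι (polyGrading N K) f hfd hd ⁻¹ᵁ Proj.basicOpen (polyGrading N K) s := Iff.rfl
  rw [h1, Proj.awayι_preimage_basicOpen (polyGrading N K) hfd hd hs he]
  have h2 : (Spec.map (CommRingCat.ofHom (awayLift (polyGrading N K) (ev k g) f hf)) p ∈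
      PrimeSpectrum.basicOpen (Away.isLocalizationElem (𝒜 := polyGrading N K) hfd hs)) ↔
      awayLift (polyGrading N K) (ev k g) f hf (Away.isLocalizationElem hfd hs) ∉ p.asIdeal := Iff.rfl
  refine h2.trans ?_
  rw [not_iff_not]
  have h3 := awayLift_mk (polyGrading N K) (ev k g) hf hfd e (s ^ d)
    (by convert! SetLike.pow_mem_graded d hs using 2; exact mul_comm _ _)
  have h4 : awayLift (polyGrading N K) (ev k g) f hf (Away.isLocalizationElem hfd hs) * ev k g f ^ e =
    ev k g s ^ d := by rw [← map_pow (ev k g) s d]; exact h3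
  constructor
  · intro h
    have := p.asIdeal.mul_mem_right (ev k g f ^ e) h
    rw [h4] at this
    exact p.2.mem_of_pow_mem _ this
  · intro h
    have := Ideal.pow_mem_of_mem _ h d hd
    rw [← h4] at this
    exact ((p.2.mem_or_mem this).resolve_right (fun h' => p.2.ne_top
      (Ideal.eq_top_of_isUnit_mem _ h' (hf.pow e))))

/-- The ratio `s / f` of two homogeneous polynomials of the same degree. -/
noncomputable def rat {f : MvPolynomial (Fin (N + 1)) K} {d : ℕ} (hfd : f ∈ polyGrading N K d)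
    (s : MvPolynomial (Fin (N + 1)) K) (hs : s ∈ polyGrading N K d) : Away (polyGrading N K) f :=
  Away.mk (polyGrading N K) hfd 1 s (by simpa using hs)

theorem awayLift_rat (k : K →+* B) (g : Fin (N + 1) → B) {f : MvPolynomial (Fin (N + 1)) K} {d : ℕ}
    (hfd : f ∈ polyGrading N K d) (hf : IsUnit (ev k g f)) (s : MvPolynomial (Fin (N + 1)) K)
    (hs : s ∈ polyGrading N K d) :
    awayLift (polyGrading N K) (ev k g) f hf (rat hfd s hs) * ev k g f = ev k g s := by
  have := awayLift_mk (polyGrading N K) (ev k g) hf hfd 1 s (by simpa using hs)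
  rw [pow_one] at this
  exact this

end K138.Pt
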