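import Groth.Agent.Resolve.K138.Hmap

/-!
# The sections of `P_e → P^n`
-/

set_option autoImplicit false

universe u

open CategoryTheory AlgebraicGeometry HomogeneousLocalization MvPolynomial
open CategoryTheory.Limits (pullback)

namespace K138.Sect

open Groth.Agent.VarietyB.ProjHom Groth.Agent.VarietyB.ProjGlue CohB1 K138.Pt K138.PolyMap K138.Prod K138.Clos
  K138.Chart K138.Cover K138.Alg K138.Hmap

variable {n : ℕ} {K : Type u} [Field K]

/-- the standard affine cover of `P^n` -/
noncomputable def acov (n : ℕ) (K : Type u) [Field K] : (Proj (polyGrading n K)).AffineOpenCover where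
  I₀ := Fin (n + 1)
  X i := .of (Away (polyGrading n K) (X i : MvPolynomial (Fin (n + 1)) K))
  f i := Proj.awayι (polyGrading n K) (X i) (X_mem i) Nat.one_pos
  idx x := (TopologicalSpace.Opens.mem_iSup.mp ((iSup_X n K).ge (TopologicalSpace.Opens.mem_top x))).choose
  covers x := by
    change x ∈ (Proj.awayι _ _ _ _).opensRange
    rw [Proj.opensRange_awayι]
    exact (TopologicalSpace.Opens.mem_iSup.mp ((iSup_X n K).ge (TopologicalSpace.Opens.mem_top x))).choose_spec

/-- the standard affine cover of `P^n` -/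
noncomputable def cov (n : ℕ) (K : Type u) [Field K] : (Proj (polyGrading n K)).OpenCover := (acov n K).openCover

instance (n : ℕ) (K : Type u) [Field K] : CompactSpace (Proj (polyGrading n K)) :=
  QuasiCompact.compactSpace_of_compactSpace (str n K)

variable {e : ℕ} (he : 0 < e)

section r

variable {r : MvPolynomial (Fin (n + 1)) K} (hr : r ∈ polyGrading n K e)

variable (e r) in
/-- the equations of the section -/
noncomputable def fR : Fin (n + 1 + 1) → MvPolynomial (Fin (n + 1)) K := Fin.cons r (fun l => X l ^ e)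

include hr in
theorem fR_mem (l : Fin (n + 1 + 1)) : fR e r l ∈ polyGrading n K e := by
  refine Fin.cases ?_ (fun j => ?_) l
  · exact hr
  · simp only [fR, Fin.cons_succ]
    have := SetLike.pow_mem_graded (A := polyGrading n K) e (X_mem j)
    simpa using this

include he in
theorem iSup_fR : ⨆ i, Proj.basicOpen (polyGrading n K) (fR e r i) = ⊤ := by
  rw [eq_top_iff, ← iSup_X n K]
  refine iSup_le fun l => ?_
  refine le_trans ?_ (le_iSup _ l.succ)
  simp only [fR, Fin.cons_succ]
  rw [Proj.basicOpen_pow _ _ _ he]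

/-- the section `[r : x_0^e : …]` -/
noncomputable def sR' : Proj (polyGrading n K) ⟶ XX (n + 1) n K :=
  pullback.lift (pm he (fR_mem hr) (iSup_fR he)) (𝟙 _) (by rw [pm_toSpec, Category.id_comp])

variable (i : Fin (n + 1))

variable (r) in
/-- the dehomogenization -/
noncomputable def rC : A n K i := ev (kA (X i)) (rt i) r

theorem awayι_sR' : Proj.awayι (polyGrading n K) (X i) (X_mem i) Nat.one_pos ≫ sR' he hr =
    Spec.map (CommRingCat.ofHom (Polynomial.evalRingHom (rC r i))) ≫ cU n K e i := by
  have hu : IsUnit (ev (kA (X i)) (rt (n := n) (K := K) i) (fR e r i.succ)) := by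
    simp only [fR, Fin.cons_succ, map_pow, ev_X, rt_self, one_pow, isUnit_one]
  apply Limits.pullback.hom_ext
  · rw [Category.assoc, sR', Limits.pullback.lift_fst, awayι_eq_ptX, ptX_pm _ _ _ _ _ _ _ i.succ hu, cU, map_qt, qt_fst]
    refine ptX_congr ?_ ?_ _ _ _
    · ext a; simp [kC]
    · funext l
      refine Fin.cases ?_ (fun j => ?_) l
      · simp [fR, gU, rC]
      · simp only [fR, gU, Fin.cons_succ, map_pow, ev_X]
        simp
  · rw [Category.assoc, sR', Limits.pullback.lift_snd, Category.comp_id, awayι_eq_ptX, cU, map_qt, qt_snd]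
    refine ptX_congr ?_ ?_ _ _ _
    · ext a; simp [kC]
    · funext l; simp [yC]

theorem ker_le_sR' : (ζ n K e).ker ≤ (sR' he hr).ker := by
  have h2 : ∀ i : Fin (n + 1), (ζ n K e).ker ≤
      (Proj.awayι (polyGrading n K) (X i) (X_mem i) Nat.one_pos ≫ sR' he hr).ker := fun i => by
    rw [awayι_sR', ← ker_U n K e i]
    exact Scheme.Hom.le_ker_comp _ _
  exact le_ker_of_openCover _ _ (cov n K) h2

/-- the section of `P_e` -/
noncomputable def sR : Proj (polyGrading n K) ⟶ PJ n K e := lft (ζ n K e).ker (sR' he hr) (ker_le_sR' he hr)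

@[reassoc]
theorem sR_ι : sR he hr ≫ ι n K e = sR' he hr := lft_ι _ _ _

theorem sR_q : sR he hr ≫ q n K e = 𝟙 _ := by
  rw [q, sR_ι_assoc, sR', pullback.lift_snd]

theorem awayι_sR : Proj.awayι (polyGrading n K) (X i) (X_mem i) Nat.one_pos ≫ sR he hr =
    Spec.map (CommRingCat.ofHom (Polynomial.evalRingHom (rC r i))) ≫ jU n K e i := by
  rw [← cancel_mono (ι n K e), Category.assoc, sR_ι, Category.assoc, jU_ι, awayι_sR']

end r

/-- the section at infinity -/
noncomputable def sI' (n : ℕ) (K : Type u) [Field K] : Proj (polyGrading n K) ⟶ XX (n + 1) n K :=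
  pullback.lift (str n K ≫ ptX (RingHom.id K) (Fin.cons 1 0) 0 isUnit_one) (𝟙 _) (by
    rw [Category.assoc, ptX_toSpec, Category.id_comp]
    have : Spec.map (CommRingCat.ofHom (RingHom.id K)) = 𝟙 _ := Spec.map_id _
    rw [this, Category.comp_id])

variable (i : Fin (n + 1))

theorem awayι_sI' (e : ℕ) : Proj.awayι (polyGrading n K) (X i) (X_mem i) Nat.one_pos ≫ sI' n K =
    Spec.map (CommRingCat.ofHom (Polynomial.evalRingHom 0)) ≫ cZ n K e i := by
  apply Limits.pullback.hom_ext
  · rw [Category.assoc, sI', Limits.pullback.lift_fst, ← Category.assoc, awayι_toSpec, map_ptX, Category.assoc, cZ,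
      qt_fst, map_ptX]
    refine ptX_congr ?_ ?_ _ _ _
    · ext a; simp [kC]
    · funext l
      refine Fin.cases ?_ (fun j => ?_) l
      · simp [gZ]
      · simp [gZ]
  · rw [Category.assoc, sI', Limits.pullback.lift_snd, Category.comp_id, awayι_eq_ptX, cZ, map_qt, qt_snd]
    refine ptX_congr ?_ ?_ _ _ _
    · ext a; simp [kC]
    · funext l; simp [yC]

theorem ker_le_sI' (e : ℕ) : (ζ n K e).ker ≤ (sI' n K).ker := by
  have h2 : ∀ i : Fin (n + 1), (ζ n K e).ker ≤
      (Proj.awayι (polyGrading n K) (X i) (X_mem i) Nat.one_pos ≫ sI' n K).ker := fun i => by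
    rw [awayι_sI' i e, ← ker_Z n K e i]
    exact Scheme.Hom.le_ker_comp _ _
  exact le_ker_of_openCover _ _ (cov n K) h2

/-- the section at infinity -/
noncomputable def sI (n : ℕ) (K : Type u) [Field K] (e : ℕ) : Proj (polyGrading n K) ⟶ PJ n K e :=
  lft (ζ n K e).ker (sI' n K) (ker_le_sI' e)

@[reassoc]
theorem sI_ι : sI n K e ≫ ι n K e = sI' n K := lft_ι _ _ _

theorem sI_q : sI n K e ≫ q n K e = 𝟙 _ := by
  rw [q, sI_ι_assoc, sI', pullback.lift_snd]

theorem awayι_sI : Proj.awayι (polyGrading n K) (X i) (X_mem i) Nat.one_pos ≫ sI n K e =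
    Spec.map (CommRingCat.ofHom (Polynomial.evalRingHom 0)) ≫ jZ n K e i := by
  rw [← cancel_mono (ι n K e), Category.assoc, sI_ι, Category.assoc, jZ_ι, awayι_sI' i e]

end K138.Sect
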